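import Cfsg.Agent.Lib.H14.GlNPC2

/-!
# Glauberman's ZJ theorem for an axiomatic family of abelian subgroups
-/

set_option autoImplicit false

namespace H14.AxZJ

open Subgroup H14.MaxIn H14.ZJ H14.ZJ3 H14.ZJ4 H14.GlNPC H14.GlNPC2 Cfsg H38.Basic
open scoped commutatorElement

/-- intersection of the members of the family contained in `Q` -/
def II {G : Type*} [Group G] (𝒜 : Set (Subgroup G)) (Q : Subgroup G) : Subgroup G :=
  sInf {A : Subgroup G | A ∈ 𝒜 ∧ A ≤ Q}

theorem mem_II {G : Type*} [Group G] {𝒜 : Set (Subgroup G)} {Q : Subgroup G} {x : G} :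
    x ∈ II 𝒜 Q ↔ ∀ A ∈ 𝒜, A ≤ Q → x ∈ A := by
  rw [II, mem_sInf]
  constructor
  · intro h A h1 h2; exact h A ⟨h1, h2⟩
  · rintro h A ⟨h1, h2⟩; exact h A h1 h2

theorem II_le {G : Type*} [Group G] {𝒜 : Set (Subgroup G)} {Q A : Subgroup G} (hA : A ∈ 𝒜) (hAQ : A ≤ Q) :
    II 𝒜 Q ≤ A := sInf_le ⟨hA, hAQ⟩

theorem II_anti {G : Type*} [Group G] {𝒜 : Set (Subgroup G)} {Q R : Subgroup G} (h : Q ≤ R) :
    II 𝒜 R ≤ II 𝒜 Q := sInf_le_sInf fun _ hA => ⟨hA.1, hA.2.trans h⟩

/-- the axioms for a family of abelian subgroups of `P` -/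
structure Fam {G : Type*} [Group G] (𝒜 : Set (Subgroup G)) (P : Subgroup G) : Prop where
  le : ∀ A ∈ 𝒜, A ≤ P
  comm : ∀ A ∈ 𝒜, ∀ x ∈ A, ∀ y ∈ A, x * y = y * x
  ne : 𝒜.Nonempty
  inv : ∀ Q ≤ P, (∃ A ∈ 𝒜, A ≤ Q) → normalizer (Q : Set G) ≤ normalizer (II 𝒜 Q : Set G)
  rep : ∀ B ≤ P, P ≤ normalizer (B : Set G) → ⁅⁅B, B⁆, B⁆ = ⊥ → (∃ A ∈ 𝒜, ⁅B, B⁆ ≤ A ∧ ¬ B ≤ A) →
    ∃ A ∈ 𝒜, ⁅B, B⁆ ≤ A ∧ ¬ B ≤ A ∧ B ≤ normalizer (A : Set G)

variable {G : Type*} [Group G]

theorem Fam.II_le {𝒜 : Set (Subgroup G)} {P : Subgroup G} (h : Fam 𝒜 P) : II 𝒜 P ≤ P := by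
  obtain ⟨A, hA⟩ := h.ne
  exact (AxZJ.II_le hA (h.le A hA)).trans (h.le A hA)

theorem Fam.II_comm {𝒜 : Set (Subgroup G)} {P : Subgroup G} (h : Fam 𝒜 P) :
    ∀ x ∈ II 𝒜 P, ∀ y ∈ II 𝒜 P, x * y = y * x := by
  obtain ⟨A, hA⟩ := h.ne
  have h1 := AxZJ.II_le hA (h.le A hA)
  exact fun x hx y hy => h.comm A hA x (h1 hx) y (h1 hy)

theorem Fam.norm {𝒜 : Set (Subgroup G)} {P : Subgroup G} (h : Fam 𝒜 P) :
    P ≤ normalizer (II 𝒜 P : Set G) := by
  obtain ⟨A, hA⟩ := h.ne
  exact le_normalizer.trans (h.inv P le_rfl ⟨A, hA, h.le A hA⟩)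

/-- passage to a subgroup containing `P` -/
theorem Fam.sub {𝒜 : Set (Subgroup G)} {P : Subgroup G} (h : Fam 𝒜 P) {M : Subgroup G} (hPM : P ≤ M) :
    Fam {A : Subgroup M | A.map M.subtype ∈ 𝒜} (P.subgroupOf M) ∧
      ∀ Q : Subgroup M, (∃ A ∈ 𝒜, A ≤ Q.map M.subtype) →
        (II {A : Subgroup M | A.map M.subtype ∈ 𝒜} Q).map M.subtype = II 𝒜 (Q.map M.subtype) := by
  have hinj := M.subtype_injective
  have hsub : ∀ A ∈ 𝒜, (A.subgroupOf M).map M.subtype = A := fun A hA => by
    rw [subgroupOf_map_subtype, inf_eq_left]; exact (h.le A hA).trans hPM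
  have hsub' : ∀ A ∈ 𝒜, A.subgroupOf M ∈ {A : Subgroup M | A.map M.subtype ∈ 𝒜} := fun A hA => by
    change (A.subgroupOf M).map M.subtype ∈ 𝒜
    rw [hsub A hA]; exact hA
  have key : ∀ Q : Subgroup M, (∃ A ∈ 𝒜, A ≤ Q.map M.subtype) →
        (II {A : Subgroup M | A.map M.subtype ∈ 𝒜} Q).map M.subtype = II 𝒜 (Q.map M.subtype) := by
    rintro Q ⟨A₀, hA₀, hA₀Q⟩
    ext x
    constructor
    · rintro ⟨y, hy, rfl⟩
      rw [mem_II]
      intro A hA hAQ
      have h1 := mem_II.mp hy (A.subgroupOf M) (hsub' A hA) (by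
        rw [← map_le_map_iff_of_injective hinj, hsub A hA]; exact hAQ)
      exact h1
    · intro hx
      have h1 := mem_II.mp hx A₀ hA₀ hA₀Q
      obtain ⟨y, hy, rfl⟩ := hA₀Q h1
      refine ⟨y, ?_, rfl⟩
      rw [SetLike.mem_coe, mem_II]
      intro A hA hAQ
      have h2 := mem_II.mp hx (A.map M.subtype) hA (map_mono hAQ)
      rwa [mem_map_iff_mem hinj] at h2
  have hP : (P.subgroupOf M).map M.subtype = P := by rw [subgroupOf_map_subtype, inf_eq_left]; exact hPM
  refine ⟨⟨?_, ?_, ?_, ?_, ?_⟩, key⟩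
  · intro A hA
    rw [← map_le_map_iff_of_injective hinj, hP]
    exact h.le _ hA
  · intro A hA x hx y hy
    exact Subtype.ext (h.comm _ hA x ⟨x, hx, rfl⟩ y ⟨y, hy, rfl⟩)
  · obtain ⟨A, hA⟩ := h.ne
    exact ⟨_, hsub' A hA⟩
  · rintro Q hQ ⟨A, hA, hAQ⟩ n hn
    have hQP : Q.map M.subtype ≤ P := by rw [← hP]; exact map_mono hQ
    have h1 := h.inv (Q.map M.subtype) hQP ⟨_, hA, map_mono hAQ⟩
    have h2 : (n : G) ∈ normalizer ((Q.map M.subtype : Subgroup G) : Set G) :=
      le_normalizer_map M.subtype ⟨n, hn, rfl⟩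
    have h3 := h1 h2
    rw [← key Q ⟨_, hA, map_mono hAQ⟩] at h3
    rw [mem_normalizer_iff]
    intro x
    have h4 := mem_normalizer_iff.mp h3 x
    rw [show ((n : G) * x * (n : G)⁻¹) = ((n * x * n⁻¹ : M) : G) from rfl] at h4
    have h5 : ∀ z : M, (z : G) ∈ (II {A : Subgroup M | A.map M.subtype ∈ 𝒜} Q).map M.subtype ↔
      z ∈ II {A : Subgroup M | A.map M.subtype ∈ 𝒜} Q := fun z => mem_map_iff_mem hinj
    rwa [h5, h5] at h4
  · rintro B hB hBn hBB ⟨A, hA, h1, h2⟩
    have hcomm : ⁅B, B⁆.map M.subtype = ⁅B.map M.subtype, B.map M.subtype⁆ := map_commutator _ _ _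
    have h3 : P ≤ normalizer ((B.map M.subtype : Subgroup G) : Set G) := by
      rw [← hP]
      exact (map_mono hBn).trans (le_normalizer_map M.subtype)
    obtain ⟨A₁, hA₁, h4, h5, h6⟩ := h.rep (B.map M.subtype) (by rw [← hP]; exact map_mono hB) h3 (by
        rw [← hcomm, ← map_commutator, hBB, Subgroup.map_bot])
      ⟨_, hA, by rw [← hcomm]; exact map_mono h1, fun h => h2 ((map_le_map_iff_of_injective hinj).mp h)⟩
    refine ⟨A₁.subgroupOf M, hsub' A₁ hA₁, ?_, ?_, ?_⟩
    · rw [← map_le_map_iff_of_injective hinj, hsub A₁ hA₁, hcomm]; exact h4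
    · intro h7
      apply h5
      have := map_mono (f := M.subtype) h7
      rwa [hsub A₁ hA₁] at this
    · intro b hb
      rw [mem_normalizer_iff]
      intro x
      have h7 := mem_normalizer_iff.mp (h6 ⟨b, hb, rfl⟩) (x : G)
      exact h7

variable [Finite G] {p : ℕ} [Fact p.Prime]

theorem ax_aux (P : Sylow p G) {𝒜 : Set (Subgroup G)} (hF : Fam 𝒜 (P : Subgroup G))
    (hst : ∀ V : Subgroup G, V.Normal → IsPGroup p V → Stab (P : Subgroup G) V) :
    ∀ (n : ℕ) (B : Subgroup G), B.Normal → IsPGroup p B → Nat.card B ≤ n →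
      (II 𝒜 (P : Subgroup G) ⊓ B).Normal := by
  intro n
  induction n with
  | zero =>
    intro B _ _ hn
    have := Nat.card_pos (α := B)
    omega
  | succ n ih =>
    intro B hBn hB hn
    by_contra hcon
    set W := II 𝒜 (P : Subgroup G) with hW
    set T := W ⊓ B with hT
    have hBP : B ≤ (P : Subgroup G) := (H1.Cores.le_pCore hBn hB).trans (H1.Cores.pCore_le_sylow P)
    have hPW : (P : Subgroup G) ≤ normalizer (W : Set G) := hF.norm
    have hWP : W ≤ (P : Subgroup G) := hF.II_le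
    have hBtop : normalizer (B : Set G) = ⊤ := normalizer_eq_top B
    have hnT : normalizer (W : Set G) ≤ normalizer (T : Set G) := by
      intro x hx
      rw [mem_normalizer_iff] at hx ⊢
      intro y
      change y ∈ W ⊓ B ↔ x * y * x⁻¹ ∈ W ⊓ B
      rw [mem_inf, mem_inf]
      have h1 := mem_normalizer_iff.mp (show x ∈ normalizer (B : Set G) by rw [hBtop]; trivial) y
      exact and_congr (hx y) h1
    -- step 1
    have hcl : normalClosure (T : Set G) = B := by
      by_contra hne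
      have hle : normalClosure (T : Set G) ≤ B := normalClosure_le_normal inf_le_right
      have hlt := card_lt_of_lt (lt_of_le_of_ne hle hne)
      have h1 := ih (normalClosure (T : Set G)) inferInstance
        (hB.to_le hle) (by omega)
      apply hcon
      have h2 : W ⊓ normalClosure (T : Set G) = T := by
        apply le_antisymm
        · exact inf_le_inf_left _ hle
        · exact le_inf inf_le_left subset_normalClosure
      rwa [h2] at h1
    have hBne : B ≠ ⊥ := by
      rintro rfl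
      apply hcon
      rw [hT, inf_bot_eq]; infer_instance
    -- step 2
    have hlt := commutator_lt_of_isPGroup hB hBne
    have hN : (W ⊓ ⁅B, B⁆).Normal := ih ⁅B, B⁆ inferInstance (hB.to_le hlt.le)
      (by have := card_lt_of_lt hlt; omega)
    have hTB : ⁅T, B⁆ ≤ W ⊓ ⁅B, B⁆ := by
      refine le_inf ?_ (commutator_mono inf_le_right le_rfl)
      exact (commutator_mono inf_le_left le_rfl).trans
        (le_normalizer_iff_commutator_le_left.mp (hBP.trans hPW))
    have hBB : ⁅B, B⁆ ≤ W := by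
      have h1 := commutator_normalClosure_le hTB
      rw [hcl] at h1
      exact h1.trans inf_le_left
    have hBBB : ⁅⁅B, B⁆, B⁆ = ⊥ := by
      rw [commutator_comm, commutator_eq_bot_iff_le_centralizer]
      have h1 : (centralizer ((⁅B, B⁆ : Subgroup G) : Set G)).Normal := inferInstance
      have h2 : normalClosure (T : Set G) ≤ centralizer ((⁅B, B⁆ : Subgroup G) : Set G) := by
        apply normalClosure_le_normal
        intro t ht
        rw [SetLike.mem_coe, mem_centralizer_iff]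
        intro x hx
        exact hF.II_comm x (hBB hx) t (mem_inf.mp ht).1
      rwa [hcl] at h2
    -- step 4
    set L := (normalizer (T : Set G)).normalCore with hL
    haveI : L.Normal := normalCore_normal _
    have hLT : L ≤ normalizer (T : Set G) := normalCore_le _
    have hstep : ∀ A ∈ 𝒜, ⁅⁅B, A⁆, A⁆ = ⊥ → A ≤ L := by
      intro A hA hq
      obtain ⟨M, hM1, hM2, hM3⟩ := hst B hBn hB A (hF.le A hA) hq
      refine hM2.trans ?_
      haveI := hM1
      rw [hL, normal_le_normalCore]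
      refine hM3.trans (sup_le ?_ (hPW.trans hnT))
      refine (centralizer_le ?_).trans (centralizer_le_normalizer _)
      exact (inf_le_right : T ≤ B)
    have hfrat := H13.SylowN.frattini P L
    by_cases hall : ∀ A ∈ 𝒜, A ≤ L
    · have h2 : II 𝒜 ((P : Subgroup G) ⊓ L) = W := by
        rw [hW, II, II]
        congr 1
        ext A
        exact ⟨fun h => ⟨h.1, h.2.trans inf_le_left⟩, fun h => ⟨h.1, le_inf h.2 (hall A h.1)⟩⟩
      have h3 : normalizer (((P : Subgroup G) ⊓ L : Subgroup G) : Set G) ≤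
          normalizer (II 𝒜 ((P : Subgroup G) ⊓ L) : Set G) := by
        obtain ⟨A, hA⟩ := hF.ne
        exact hF.inv _ inf_le_left ⟨A, hA, le_inf (hF.le A hA) (hall A hA)⟩
      rw [h2] at h3
      apply hcon
      rw [← normalizer_eq_top_iff, eq_top_iff, ← hfrat]
      exact sup_le (h3.trans hnT) hLT
    · push Not at hall
      obtain ⟨A, hA, hAL⟩ := hall
      have hBA : ¬ B ≤ A := by
        intro hBA
        apply hAL
        apply hstep A hA
        have h1 : ⁅B, A⁆ = ⊥ := by
          rw [commutator_eq_bot_iff_le_centralizer]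
          intro x hx
          rw [mem_centralizer_iff]
          intro y hy
          exact hF.comm A hA y hy x (hBA hx)
        rw [h1, commutator_bot_left]
      obtain ⟨A₁, hA₁, h1, h2, h3⟩ := hF.rep B hBP (by rw [hBtop]; exact le_top) hBBB
        ⟨A, hA, hBB.trans (II_le hA (hF.le A hA)), hBA⟩
      have hA₁L : A₁ ≤ L := by
        apply hstep A₁ hA₁
        have h4 : ⁅B, A₁⁆ ≤ A₁ := by
          rw [commutator_comm]
          exact le_normalizer_iff_commutator_le_left.mp h3
        rw [eq_bot_iff]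
        refine (commutator_mono h4 le_rfl).trans ?_
        have h5 : ⁅A₁, A₁⁆ = ⊥ := by
          rw [commutator_eq_bot_iff_le_centralizer]
          intro x hx
          rw [mem_centralizer_iff]
          intro y hy
          exact hF.comm A₁ hA₁ y hy x hx
        rw [h5]
      have hA₁' : A₁ ≤ (P : Subgroup G) ⊓ L := le_inf (hF.le A₁ hA₁) hA₁L
      have hWW : W ≤ II 𝒜 ((P : Subgroup G) ⊓ L) := II_anti inf_le_left
      have h5 := hF.inv ((P : Subgroup G) ⊓ L) inf_le_left ⟨A₁, hA₁, hA₁'⟩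
      apply h2
      rw [← hcl]
      refine le_trans ?_ (II_le hA₁ hA₁')
      -- conjugates of T
      rw [normalClosure, closure_le]
      intro y hy
      rw [Group.mem_conjugatesOfSet_iff] at hy
      obtain ⟨t, ht, hty⟩ := hy
      obtain ⟨g, rfl⟩ := isConj_iff.mp hty
      have hg : g ∈ normalizer (((P : Subgroup G) ⊓ L : Subgroup G) : Set G) ⊔ L := by
        rw [hfrat]; trivial
      obtain ⟨m, hm, l, hl, rfl⟩ := mem_sup_of_normal_right.mp hg
      have h6 : l * t * l⁻¹ ∈ T := (mem_normalizer_iff.mp (hLT hl) t).mp ht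
      have h7 : l * t * l⁻¹ ∈ II 𝒜 ((P : Subgroup G) ⊓ L) := hWW (mem_inf.mp h6).1
      have h8 := (mem_normalizer_iff.mp (h5 hm) _).mp h7
      have h9 : m * l * t * (m * l)⁻¹ = m * (l * t * l⁻¹) * m⁻¹ := by group
      rw [h9]; exact h8

/-- the ZJ theorem -/
theorem ax_normal (P : Sylow p G) {𝒜 : Set (Subgroup G)} (hF : Fam 𝒜 (P : Subgroup G))
    (hst : ∀ V : Subgroup G, V.Normal → IsPGroup p V → Stab (P : Subgroup G) V)
    (hc : centralizer (pCore p G : Set G) ≤ pCore p G) : (II 𝒜 (P : Subgroup G)).Normal := by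
  haveI := H1.Cores.pCore_normal (G := G) p
  have hO := H1.Cores.isPGroup_pCore (G := G) p
  have hOP := H1.Cores.pCore_le_sylow P
  set W := II 𝒜 (P : Subgroup G) with hW
  have hPW : (P : Subgroup G) ≤ normalizer (W : Set G) := hF.norm
  have hWP : W ≤ (P : Subgroup G) := hF.II_le
  have h1 : ⁅⁅pCore p G, W⁆, W⁆ = ⊥ := by
    have h4 : ⁅pCore p G, W⁆ ≤ W := by
      rw [commutator_comm]
      exact le_normalizer_iff_commutator_le_left.mp (hOP.trans hPW)
    rw [eq_bot_iff]
    refine (commutator_mono h4 le_rfl).trans ?_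
    have h5 : ⁅W, W⁆ = ⊥ := by
      rw [commutator_eq_bot_iff_le_centralizer]
      intro x hx
      rw [mem_centralizer_iff]
      intro y hy
      exact hF.II_comm y hy x hx
    rw [h5]
  obtain ⟨M, hM1, hM2, hM3⟩ := hst (pCore p G) inferInstance hO W hWP h1
  have hMP : M ≤ (P : Subgroup G) := hM3.trans (sup_le (hc.trans hOP) le_rfl)
  have hMO : M ≤ pCore p G := H1.Cores.le_pCore hM1 (P.2.to_le hMP)
  have h2 := ax_aux P hF hst _ (pCore p G) inferInstance hO le_rfl
  rwa [← hW, inf_eq_left.mpr (hM2.trans hMO)] at h2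

/-- quotient by `O_p` -/
theorem npc_quotient (hp2 : p ≠ 2) (P : Sylow p G)
    (hsub : ∀ M : Subgroup G, (P : Subgroup G) ≤ M → M ≠ ⊤ → HasNormalPComplement p M) :
    HasNormalPComplement p (G ⧸ pCore p G) := by
  set H := pCore p G with hH
  haveI : H.Normal := H1.Cores.pCore_normal p
  have hHP : H ≤ (P : Subgroup G) := H1.Cores.pCore_le_sylow P
  set π := QuotientGroup.mk' H with hπ
  have hπs : Function.Surjective π := QuotientGroup.mk'_surjective H
  have hker : π.ker = H := QuotientGroup.ker_mk' H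
  set P' := P.mapSurjective hπs with hP'
  have hP'c : (P' : Subgroup (G ⧸ H)) = (P : Subgroup G).map π := rfl
  by_cases hbot : (P' : Subgroup (G ⧸ H)) = ⊥
  · refine H2.NPC.of_card_index (⊤ : Subgroup (G ⧸ H)) ?_ (k := 0) (by rw [index_top, pow_zero])
    have h1 := P'.not_dvd_index
    rw [hbot, index_bot] at h1
    rwa [Subgroup.card_top]
  apply H14.GlNPC2.npc hp2 false P'
  set X' := WW false p (P' : Subgroup (G ⧸ H)) with hX'
  have hX'1 : X' ≠ ⊥ := WW_ne_bot false P'.2 hbot
  set X := X'.comap π with hX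
  have hXP : X ≤ (P : Subgroup G) := comap_le_of_surj _ (WW_le false p _) (by rw [hker]; exact hHP)
  have hnX : (normalizer (X' : Set (G ⧸ H))).comap π = normalizer (X : Set G) :=
    comap_normalizer_eq_of_surjective X' hπs
  have hPX : (P : Subgroup G) ≤ normalizer (X : Set G) := by
    rw [← hnX, ← map_le_iff_le_comap]
    exact le_normalizer.trans (normalizer_le_normalizer_WW false p (P' : Subgroup (G ⧸ H)))
  have htop : normalizer (X : Set G) ≠ ⊤ := by
    intro h1
    have h2 : X ≤ H := H1.Cores.le_pCore (normalizer_eq_top_iff.mp h1) (P.2.to_le hXP)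
    apply hX'1
    have h3 : X.map π = X' := map_comap_eq_self_of_surjective hπs X'
    rw [← h3, Subgroup.map_eq_bot_iff, hker]
    exact h2
  have h4 := hsub _ hPX htop
  rw [← hnX] at h4
  exact of_surjective (π.subgroupComap _) (MonoidHom.subgroupComap_surjective_of_surjective _ _ hπs) h4

theorem ax_final (hp2 : p ≠ 2) (P : Sylow p G) {𝒜 : Set (Subgroup G)} (hF : Fam 𝒜 (P : Subgroup G))
    (hC : centralizer (pCore p G : Set G) ≤ pCore p G)
    (hsub : ∀ M : Subgroup G, (P : Subgroup G) ≤ M → M ≠ ⊤ → HasNormalPComplement p M)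
    (hN : HasNormalPComplement p (normalizer (II 𝒜 (P : Subgroup G) : Set G))) :
    HasNormalPComplement p G := by
  classical
  by_contra h
  have hp : p.Prime := Fact.out
  have hq := npc_quotient hp2 P hsub
  set H := pCore p G with hH
  haveI : H.Normal := H1.Cores.pCore_normal p
  have hHp : IsPGroup p H := H1.Cores.isPGroup_pCore p
  have hHP : H ≤ (P : Subgroup G) := H1.Cores.pCore_le_sylow P
  set π := QuotientGroup.mk' H with hπ
  have hπs : Function.Surjective π := QuotientGroup.mk'_surjective H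
  have hker : π.ker = H := QuotientGroup.ker_mk' H
  have hker' : ∀ x, π x = 1 ↔ x ∈ H := fun x => by rw [← MonoidHom.mem_ker, hker]
  set P' := P.mapSurjective hπs with hP'
  have hP'c : (P' : Subgroup (G ⧸ H)) = (P : Subgroup G).map π := rfl
  have h1 := (H2.NPC.iff_not_dvd_card_residual).mp hq
  obtain ⟨k, hk⟩ := H2.Residual.exists_index_residual (G := G ⧸ H) (p := p)
  set R := pResidual p (G ⧸ H) with hR
  haveI : R.Normal := by rw [hR]; infer_instance
  have hR1 : R ≠ ⊥ := by
    intro hb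
    apply h
    apply of_isPGroup
    rw [hb, index_bot] at hk
    obtain ⟨m, hm⟩ := hHp.exists_card_eq
    apply IsPGroup.of_card (n := m + k)
    rw [← H.card_mul_index, index_eq_card, hk, hm, pow_add]
  -- minimal invariant subgroup
  obtain ⟨S, ⟨hS1, hSR, hPS⟩, hmin⟩ := Set.exists_min_image
    {S : Subgroup (G ⧸ H) | S ≠ ⊥ ∧ S ≤ R ∧ (P' : Subgroup (G ⧸ H)) ≤ normalizer (S : Set (G ⧸ H))}
    (fun S => Nat.card S) (Set.toFinite _) ⟨R, hR1, le_rfl, by rw [normalizer_eq_top R]; exact le_top⟩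
  have hSc : ¬ p ∣ Nat.card S := fun hd => h1 (hd.trans (Subgroup.card_dvd_of_le hSR))
  have hmin' : ∀ T : Subgroup (G ⧸ H), T ≠ ⊥ → T ≤ S → (P' : Subgroup (G ⧸ H)) ≤ normalizer (T : Set (G ⧸ H)) →
      T = S := by
    intro T hT hTS hn
    exact Subgroup.eq_of_le_of_card_ge hTS (hmin T ⟨hT, hTS.trans hSR, hn⟩)
  have hScomm : ∀ a ∈ S, ∀ b ∈ S, a * b = b * a := by
    -- S is a q-group
    have hScard : Nat.card S ≠ 1 := fun h => hS1 (Subgroup.card_eq_one.mp h)
    set q := (Nat.card S).minFac with hqdef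
    haveI : Fact q.Prime := ⟨Nat.minFac_prime hScard⟩
    have hcop : (Nat.card (P' : Subgroup (G ⧸ H))).Coprime (Nat.card S) := by
      obtain ⟨m, hm⟩ := P'.2.exists_card_eq
      rw [hm]
      exact ((Nat.Prime.coprime_iff_not_dvd hp).mpr hSc).pow_left m
    have hsolv : Group.IsSolvable (P' : Subgroup (G ⧸ H)) := by
      haveI : Group.IsNilpotent (P' : Subgroup (G ⧸ H)) := P'.2.isNilpotent
      infer_instance
    obtain ⟨T, hT, hPT⟩ := H1.Coprime2.exists_invariant_sylow (P' : Subgroup (G ⧸ H)) S hPS hcop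
      (Or.inl hsolv) q
    have hT1 : T ≠ ⊥ := by
      intro hb
      have h2 := hT.2
      rw [hb, Subgroup.card_bot] at h2
      have h3 : (Nat.card S).factorization q ≠ 0 := by
        exact (Nat.Prime.factorization_pos_of_dvd Fact.out Nat.card_pos.ne' (Nat.minFac_dvd _)).ne'
      have h4 : 1 < q ^ (Nat.card S).factorization q := Nat.one_lt_pow h3 (Fact.out : q.Prime).one_lt
      omega
    have hTS := hmin' T hT1 hT.1 hPT
    have hSq : IsPGroup q S := by
      rw [← hTS]
      exact IsPGroup.of_card hT.2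
    by_contra hcon
    have h2 : ⁅S, S⁆ ≠ ⊥ := by
      intro hb
      apply hcon
      intro a ha b hb'
      have := commutator_mem_commutator ha hb'
      rw [hb, mem_bot, commutatorElement_eq_one_iff_mul_comm] at this
      exact this
    have h3 := commutator_lt_of_isPGroup hSq hS1
    have h4 := hmin' ⁅S, S⁆ h2 h3.le (H1.Coprime2.le_normalizer_commutator hPS hPS)
    exact h3.ne h4
  -- G = P S
  have hPSn : (P' : Subgroup (G ⧸ H)) ⊔ S ≤ normalizer (S : Set (G ⧸ H)) := sup_le hPS le_normalizer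
  have htop : (P' : Subgroup (G ⧸ H)) ⊔ S = ⊤ := by
    by_contra hne
    set G₁ := ((P' : Subgroup (G ⧸ H)) ⊔ S).comap π with hG₁
    have hG₁t : G₁ ≠ ⊤ := by
      intro ht
      apply hne
      have h2 : G₁.map π = (P' : Subgroup (G ⧸ H)) ⊔ S := map_comap_eq_self_of_surjective hπs _
      rw [← h2, ht, ← MonoidHom.range_eq_map, MonoidHom.range_eq_top.mpr hπs]
    have hPG₁ : (P : Subgroup G) ≤ G₁ := by
      rw [hG₁, ← map_le_iff_le_comap]
      exact le_sup_left
    have h3 := hsub G₁ hPG₁ hG₁t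
    have h4 : ∀ y ∈ G₁, (orderOf y).Coprime p → y = 1 := by
      intro y hy hyo
      have h5 := H2.Frobenius.local_of_hasNPC h3 (H.subgroupOf G₁) (hHp.comap_subtype) ⟨y, hy⟩ (by
        haveI : (H.subgroupOf G₁).Normal := inferInstance
        rw [normalizer_eq_top (H.subgroupOf G₁)]; trivial) (by rwa [orderOf_mk])
      have h6 : y ∈ centralizer (H : Set G) := by
        rw [mem_centralizer_iff] at h5 ⊢
        intro v hv
        exact congrArg Subtype.val (h5 ⟨v, hPG₁ (hHP hv)⟩ hv)
      have h7 := hC h6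
      exact H38.PPrime.eq_one_of_coprime_of_isPGroup hHp h7 hyo
    obtain ⟨⟨s', hs'⟩, hs1'⟩ := Subgroup.ne_bot_iff_exists_ne_one.mp hS1
    have hs1 : s' ≠ 1 := fun h => hs1' (Subtype.ext h)
    obtain ⟨s, rfl⟩ := hπs s'
    have hsG : s ∈ G₁ := by rw [hG₁, mem_comap]; exact mem_sup_right hs'
    have hm : ∃ m, ¬ p ∣ m ∧ s ^ m ∈ H := ⟨Nat.card S, hSc, by
      rw [← hker', map_pow]
      exact congrArg Subtype.val (pow_card_eq_one' (x := (⟨π s, hs'⟩ : S)))⟩
    obtain ⟨y, hy1, hy2, hy3⟩ := exists_pprime_power (p := p) (fun h => hs1 ((hker' s).mpr h)) hm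
    apply hy3
    rw [h4 y ((zpowers_le.mpr hsG) hy1) hy2]
    exact one_mem _
  haveI hSn : S.Normal := by
    rw [← normalizer_eq_top_iff, eq_top_iff, ← htop]
    exact hPSn
  set K := S.comap π with hK
  haveI : K.Normal := by rw [hK]; infer_instance
  have hKK : ∀ a ∈ K, ∀ b ∈ K, ⁅a, b⁆ ∈ H := by
    intro a ha b hb
    rw [← hker', map_commutatorElement, commutatorElement_eq_one_iff_mul_comm]
    exact hScomm _ ha _ hb
  have hKm : ∀ a ∈ K, ∃ m, ¬ p ∣ m ∧ a ^ m ∈ H := by
    intro a ha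
    refine ⟨Nat.card S, hSc, ?_⟩
    rw [← hker', map_pow]
    exact congrArg Subtype.val (pow_card_eq_one' (x := (⟨π a, ha⟩ : S)))
  have hHK : H ≤ K := fun x hx => by
    rw [hK, mem_comap, (hker' x).mpr hx]; exact one_mem _
  have hPK : (P : Subgroup G) ⊔ K = ⊤ := by
    have h2 : ((P : Subgroup G) ⊔ K).map π = ⊤ := by
      rw [Subgroup.map_sup, map_comap_eq_self_of_surjective hπs]; exact htop
    have h3 := congrArg (fun X => Subgroup.comap π X) h2
    simp only [comap_top] at h3
    rw [comap_map_eq, hker, sup_eq_left.mpr (hHK.trans le_sup_right)] at h3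
    exact h3
  have hstab : ∀ V : Subgroup G, V.Normal → IsPGroup p V → Stab (P : Subgroup G) V := by
    intro V hVn hV A hAP hq
    have hVH : V ≤ H := H1.Cores.le_pCore hVn hV
    by_cases hcase : ∀ a ∈ A, ∀ k ∈ K, k⁻¹ * (a * k * a⁻¹) ∈ H
    · refine ⟨H, inferInstance, ?_, hHP.trans le_sup_right⟩
      -- A ≤ H
      set Z := (P' : Subgroup (G ⧸ H)) ⊓ centralizer (S : Set (G ⧸ H)) with hZ
      have hZn : Z.Normal := by
        rw [← normalizer_eq_top_iff, eq_top_iff, ← htop]
        refine sup_le ?_ ?_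
        · exact H1.Coprime2.le_normalizer_inf le_normalizer (H1.Coprime2.le_normalizer_centralizer hPS)
        · intro s hs
          refine centralizer_le_normalizer _ ?_
          rw [mem_centralizer_iff]
          intro z hz
          exact (mem_centralizer_iff.mp (mem_inf.mp hz).2 s hs).symm
      have hZb : Z = ⊥ := by
        have h2 : Z ≤ pCore p (G ⧸ H) := H1.Cores.le_pCore hZn (P'.2.to_le inf_le_left)
        exact le_bot_iff.mp (h2.trans (H1.Cores.pCore_quotient_pCore (G := G) p).le)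
      intro a ha
      rw [← hker', ← mem_bot, ← hZb]
      refine mem_inf.mpr ⟨mem_map_of_mem π (hAP ha), ?_⟩
      rw [mem_centralizer_iff]
      intro s hs
      obtain ⟨k, rfl⟩ := hπs s
      have h3 := (hker' _).mpr (hcase a ha k hs)
      rw [map_mul, map_mul, map_mul, map_inv, map_inv, inv_mul_eq_one] at h3
      nth_rw 1 [h3]; group
    · push Not at hcase
      obtain ⟨a, ha, k, hk, hr⟩ := hcase
      refine ⟨⊤, inferInstance, le_top, ?_⟩
      have hrK : k⁻¹ * (a * k * a⁻¹) ∈ K :=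
        mul_mem (inv_mem hk) ((inferInstance : K.Normal).conj_mem k hk a)
      obtain ⟨y, hy1, hy2, hy3⟩ := exists_pprime_power (p := p) hr (hKm _ hrK)
      have hyK : y ∈ K := (zpowers_le.mpr hrK) hy1
      obtain ⟨j, hj⟩ := P.2 ⟨a, hAP ha⟩
      have haj : a ^ (p ^ j) = 1 := congrArg Subtype.val hj
      have hquad : ∀ v ∈ V, ⁅a, ⁅a, v⁆⁆ = 1 := by
        intro v hv
        have h2 : ⁅a, ⁅a, v⁆⁆ ∈ ⁅⁅V, A⁆, A⁆ := by
          rw [commutator_comm, commutator_comm V A]
          exact commutator_mem_commutator ha (commutator_mem_commutator ha hv)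
        rw [hq, mem_bot] at h2
        exact h2
      have hyC := H14.QuadStab.mem_centralizer_of_quadratic hp2 H hHp K hKK hKm a ⟨j, haj⟩ _ V hVn hVH le_rfl
        hquad k hk y hy1 hy2
      set C := centralizer (V : Set G) with hCdef
      haveI := hVn
      have hCK : (C ⊓ K).map π = S := by
        apply hmin'
        · intro hb
          apply hy3
          rw [Subgroup.map_eq_bot_iff, hker] at hb
          exact hb (mem_inf.mpr ⟨hyC, hyK⟩)
        · rintro _ ⟨x, hx, rfl⟩
          exact (mem_inf.mp hx).2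
        · have : ((C ⊓ K).map π).Normal := Normal.map inferInstance π hπs
          rw [normalizer_eq_top]; exact le_top
      have h2 : K ≤ C ⊔ (P : Subgroup G) := by
        intro x hx
        have h3 : π x ∈ (C ⊓ K).map π := by rw [hCK]; exact hx
        obtain ⟨c, hc, hcx⟩ := h3
        have h4 : c⁻¹ * x ∈ H := by rw [← hker', map_mul, map_inv, hcx, inv_mul_cancel]
        have h5 : x = c * (c⁻¹ * x) := by group
        rw [h5]
        exact mul_mem (mem_sup_left (mem_inf.mp hc).1) (mem_sup_right (hHP h4))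
      rw [← hPK]
      exact sup_le le_sup_right h2
  have hW := ax_normal P hF hstab hC
  rw [normalizer_eq_top] at hN
  exact h (H2.NPC.of_mulEquiv topEquiv hN)


theorem ax_npc_aux {p : ℕ} [Fact p.Prime] (hp2 : p ≠ 2) : ∀ (n : ℕ) (G : Type*) [Group G] [Finite G]
    (P : Sylow p G) (𝒜 : Set (Subgroup G)), Nat.card G ≤ n → Fam 𝒜 (P : Subgroup G) →
    centralizer (pCore p G : Set G) ≤ pCore p G →
    HasNormalPComplement p (normalizer (II 𝒜 (P : Subgroup G) : Set G)) → HasNormalPComplement p G := by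
  intro n
  induction n with
  | zero =>
    intro G _ _ P 𝒜 hn
    have := Nat.card_pos (α := G)
    omega
  | succ n ih =>
    intro G _ _ P 𝒜 hn hF hC hN
    refine ax_final hp2 P hF hC (fun M hPM hM => ?_) hN
    have hcard : Nat.card M ≤ n := by
      have h1 := card_lt_of_lt (lt_top_iff_ne_top.mpr hM)
      rw [card_top] at h1
      omega
    obtain ⟨hF', hmap⟩ := hF.sub hPM
    have hP' : ((P.subtype hPM : Sylow p M) : Subgroup M) = (P : Subgroup G).subgroupOf M := rfl
    refine ih M (P.subtype hPM) _ hcard (by rw [hP']; exact hF') ?_ ?_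
    · -- constrained
      haveI := H1.Cores.pCore_normal (G := G) p
      have hOM : pCore p G ≤ M := (H1.Cores.pCore_le_sylow P).trans hPM
      have h1 : (pCore p G).subgroupOf M ≤ pCore p M :=
        H1.Cores.le_pCore inferInstance ((H1.Cores.isPGroup_pCore (G := G) p).comap_subtype)
      intro c hc
      apply h1
      rw [mem_subgroupOf]
      apply hC
      rw [mem_centralizer_iff]
      intro x hx
      have h2 := mem_centralizer_iff.mp hc ⟨x, hOM hx⟩ (h1 hx)
      exact congrArg Subtype.val h2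
    · have hP : ((P : Subgroup G).subgroupOf M).map M.subtype = P := by
        rw [subgroupOf_map_subtype, inf_eq_left]; exact hPM
      have h1 := hmap ((P : Subgroup G).subgroupOf M) (by
        obtain ⟨A, hA⟩ := hF.ne
        exact ⟨A, hA, by rw [hP]; exact hF.le A hA⟩)
      rw [hP] at h1
      rw [hP']
      set I' := II {A : Subgroup M | A.map M.subtype ∈ 𝒜} ((P : Subgroup G).subgroupOf M) with hI'
      have h2 : ∀ x ∈ normalizer (I' : Set M), (x : G) ∈ normalizer (II 𝒜 (P : Subgroup G) : Set G) := by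
        intro x hx
        rw [← h1]
        exact le_normalizer_map M.subtype ⟨x, hx, rfl⟩
      let f : ↥(normalizer (I' : Set M)) →* ↥(normalizer (II 𝒜 (P : Subgroup G) : Set G)) :=
        (M.subtype.comp (normalizer (I' : Set M)).subtype).codRestrict
          (normalizer (II 𝒜 (P : Subgroup G) : Set G)) fun x => h2 x x.2
      have hf : ∀ x, ((f x : ↥(normalizer (II 𝒜 (P : Subgroup G) : Set G))) : G) = ((x : M) : G) := fun x => rfl
      refine of_injective f (fun x y hxy => ?_) hN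
      have h3 : ((x : M) : G) = ((y : M) : G) := by rw [← hf, ← hf, hxy]
      exact Subtype.ext (Subtype.ext h3)

/-- Glauberman–Thompson criterion for an axiomatic family, in a constrained group. -/
theorem ax_npc {p : ℕ} [Fact p.Prime] (hp2 : p ≠ 2) {G : Type*} [Group G] [Finite G]
    (P : Sylow p G) (𝒜 : Set (Subgroup G)) (hF : Fam 𝒜 (P : Subgroup G))
    (hC : centralizer (pCore p G : Set G) ≤ pCore p G)
    (hN : HasNormalPComplement p (normalizer (II 𝒜 (P : Subgroup G) : Set G))) :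
    HasNormalPComplement p G := ax_npc_aux hp2 _ G P 𝒜 le_rfl hF hC hN

end H14.AxZJ
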