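import Cfsg.Agent.Lib.H56.BZ0
import Cfsg.Agent.Lib.H25.BzA2c

/-! S2987, piece A2 (wrapper): alternating blocks. -/

set_option autoImplicit false
set_option linter.all false

namespace H14.BZ

open Subgroup Cfsg H51.FF H51.OG H52.PRes H52.PCore H51.Bau H1.Coprime2 H56.BmP H56.BmQ H56.BmV H56.BZ
open scoped commutatorElement MatrixGroups

/-- abstract: elements normalizing `E`, `U`, `U₀` act on the even weight module as permutations -/
theorem alt_abs {G : Type*} [Group G] {n : ℕ} (hn : 5 ≤ n) {E U U₀ : Subgroup G}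
    (ρ : E →* Equiv.Perm (Fin n)) (ψ : U →* Multiplicative (Fin n → ZMod 2))
    (hρ : ρ.range = alternatingGroup (Fin n))
    (hev : ∀ u : U, ∑ i, Multiplicative.toAdd (ψ u) i = 0)
    (hsurj : ∀ v : Fin n → ZMod 2, ∑ i, v i = 0 → ∃ u : U, Multiplicative.toAdd (ψ u) = v)
    (hker : ∀ u : U, ψ u = 1 ↔ (u : G) ∈ U₀)
    (heq : ∀ (e : E) (u : U), ∃ w : U, (w : G) = (e : G) * (u : G) * (e : G)⁻¹ ∧
      ∀ i : Fin n, Multiplicative.toAdd (ψ w) i = Multiplicative.toAdd (ψ u) ((ρ e)⁻¹ i))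
    {h : G} (hU : ∀ u, u ∈ U ↔ h * u * h⁻¹ ∈ U) (hU0 : ∀ u, u ∈ U₀ ↔ h * u * h⁻¹ ∈ U₀)
    (hE : ∀ u, u ∈ E ↔ h * u * h⁻¹ ∈ E) :
    ∃ π : Equiv.Perm (Fin n), ∀ (u u' : U), (u' : G) = h * u * h⁻¹ →
      ∀ i, Multiplicative.toAdd (ψ u') i = Multiplicative.toAdd (ψ u) (π⁻¹ i) := by
  classical
  let cj : U →* U :=
    { toFun := fun u => ⟨h * u * h⁻¹, (hU _).mp u.2⟩
      map_one' := Subtype.ext (by simp)
      map_mul' := fun a b => Subtype.ext (by
        change h * ((a : G) * b) * h⁻¹ = (h * a * h⁻¹) * (h * b * h⁻¹)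
        group) }
  have hcj : ∀ u : U, (cj u : G) = h * u * h⁻¹ := fun u => rfl
  have hk : ∀ u : U, ψ (cj u) = 1 ↔ ψ u = 1 := by
    intro u
    rw [hker, hker, hcj]
    exact (hU0 _).symm
  have hwd : ∀ u u' : U, ψ u = ψ u' → ψ (cj u) = ψ (cj u') := by
    intro u u' he
    have h1 : ψ (u * u'⁻¹) = 1 := by rw [map_mul, map_inv, he, mul_inv_cancel]
    have h2 := (hk _).mpr h1
    rw [map_mul, map_mul, map_inv, map_inv] at h2
    exact mul_inv_eq_one.mp h2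
  choose! s hs using hsurj
  let x : (Fin n → ZMod 2) → (Fin n → ZMod 2) := fun v => Multiplicative.toAdd (ψ (cj (s v)))
  have hx : ∀ u : U, x (Multiplicative.toAdd (ψ u)) = Multiplicative.toAdd (ψ (cj u)) := by
    intro u
    have h1 : ψ (s (Multiplicative.toAdd (ψ u))) = ψ u :=
      Multiplicative.toAdd.injective (hs _ (hev u))
    change Multiplicative.toAdd (ψ (cj (s _))) = _
    rw [hwd _ _ h1]
  have hrep : ∀ v : Fin n → ZMod 2, ∑ i, v i = 0 → ∃ u : U, Multiplicative.toAdd (ψ u) = v := fun v hv => ⟨s v, hs v hv⟩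
  obtain ⟨π, hπ⟩ := H25.BZ.norm_perm hn x
    (by
      intro v hv
      exact hev _)
    (by
      intro v w hv hw
      obtain ⟨a, rfl⟩ := hrep v hv
      obtain ⟨b, rfl⟩ := hrep w hw
      have h1 : Multiplicative.toAdd (ψ a) + Multiplicative.toAdd (ψ b) = Multiplicative.toAdd (ψ (a * b)) := by
        rw [map_mul, toAdd_mul]
      rw [h1, hx, hx, hx, map_mul, map_mul, toAdd_mul])
    (by
      intro v hv h0
      obtain ⟨a, rfl⟩ := hrep v hv
      rw [hx] at h0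
      have h1 : ψ (cj a) = 1 := Multiplicative.toAdd.injective h0
      have h2 := (hk a).mp h1
      rw [h2]; rfl)
    (by
      intro w hw
      obtain ⟨b, rfl⟩ := hrep w hw
      have hb : h⁻¹ * (b : G) * h ∈ U := by
        rw [hU]
        have : h * (h⁻¹ * (b : G) * h) * h⁻¹ = b := by group
        rw [this]; exact b.2
      refine ⟨Multiplicative.toAdd (ψ ⟨_, hb⟩), hev _, ?_⟩
      rw [hx]
      congr 2
      apply Subtype.ext
      rw [hcj]
      change h * (h⁻¹ * (b : G) * h) * h⁻¹ = b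
      group)
    (by
      intro σ hσ
      rw [← hρ] at hσ
      obtain ⟨e, rfl⟩ := hσ
      have he' : h * (e : G) * h⁻¹ ∈ E := (hE _).mp e.2
      refine ⟨ρ ⟨_, he'⟩, by rw [← hρ]; exact ⟨_, rfl⟩, ?_⟩
      intro v hv i
      obtain ⟨u, rfl⟩ := hrep v hv
      obtain ⟨w, hw1, hw2⟩ := heq e u
      have h1 : (fun i => Multiplicative.toAdd (ψ u) ((ρ e)⁻¹ i)) = Multiplicative.toAdd (ψ w) := by
        funext i; exact (hw2 i).symm
      rw [h1, hx, hx]
      obtain ⟨w', hw1', hw2'⟩ := heq ⟨_, he'⟩ (cj u)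
      have h2 : w' = cj w := by
        apply Subtype.ext
        rw [hw1', hcj, hcj, hw1]
        change h * (e : G) * h⁻¹ * (h * (u : G) * h⁻¹) * (h * (e : G) * h⁻¹)⁻¹ = _
        group
      rw [← h2, hw2' i])
  refine ⟨π, ?_⟩
  intro u u' hu i
  have h1 : u' = cj u := Subtype.ext hu
  rw [h1, ← hx]
  exact hπ _ (hev u) i

variable {G : Type*} [Group G] [Finite G]

theorem alt_HP {E : Subgroup G} (hG : centralizer (pCore 2 G : Set G) ≤ pCore 2 G) {T : Sylow 2 G} {m : ℕ} (hm : 2 ≤ m)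
    (hE : IsBaumannBlock 2 (T : Subgroup G) E)
    (hiso : Nonempty (↥E ⧸ pCore 2 ↥E ≃* ↥(alternatingGroup (Fin (2 * m + 1)))))
    (hact : ActsAsOddPermModuleOnSection (2 * m + 1) (alternatingGroup (Fin (2 * m + 1))) E
          (omegaOneCenter 2 (pCoreOf 2 E)) (omegaOneCenter 2 (pCoreOf 2 E) ⊓ centralizer (E : Set G))) :
    HP 2 (T : Subgroup G) E := by
  obtain ⟨hEn, hU0, ρ, ψ, hρ, hev, hsurj, hker, heq⟩ := hact
  have hWU : WB 2 E ≤ omegaOneCenter 2 (pCoreOf 2 E) := commutator_le_left hEn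
  have hEh : ∀ h ∈ normalizer (E : Set G), ∀ u, u ∈ E ↔ h * u * h⁻¹ ∈ E := fun h hh u => mem_normalizer_iff.mp hh u
  have hUh : ∀ h ∈ normalizer (E : Set G), ∀ u, u ∈ omegaOneCenter 2 (pCoreOf 2 E) ↔
      h * u * h⁻¹ ∈ omegaOneCenter 2 (pCoreOf 2 E) :=
    fun h hh u => mem_normalizer_iff.mp (nz_omegaOneCenter hh) u
  have hCh : ∀ h ∈ normalizer (E : Set G), ∀ u, u ∈ centralizer (E : Set G) ↔ h * u * h⁻¹ ∈ centralizer (E : Set G) :=
    fun h hh u => mem_normalizer_iff.mp (le_normalizer_centralizer (le_refl (normalizer (E : Set G))) hh) u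
  refine ⟨normalizer (E : Set G), le_normalizer, le_rfl, le_normalizer, le_nz_of_comm hE.2.1, ?_⟩
  intro h hh
  refine ⟨1, ?_⟩
  rw [pow_one, pow_two]
  obtain ⟨π, hπ⟩ := alt_abs (by omega) ρ ψ hρ hev hsurj hker heq (hUh h hh)
    (fun u => ⟨fun hu => ⟨(hUh h hh u).mp hu.1, (hCh h hh u).mp hu.2⟩,
      fun hu => ⟨(hUh h hh u).mpr hu.1, (hCh h hh u).mpr hu.2⟩⟩) (hEh h hh)
  have hππ : π * π ∈ alternatingGroup (Fin (2 * m + 1)) := by
    rw [Equiv.Perm.mem_alternatingGroup, map_mul]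
    exact Int.units_mul_self _
  rw [← hρ] at hππ
  obtain ⟨e, he⟩ := hππ
  have hc : (e : G)⁻¹ * (h * h) ∈ centralizer (WB 2 E : Set G) := by
    have hnorm : (e : G)⁻¹ * (h * h) ∈ normalizer (E : Set G) :=
      mul_mem (inv_mem (le_normalizer e.2)) (mul_mem hh hh)
    apply ts hG hE hnorm
    intro w hw
    have hwU := hWU hw
    -- images
    let u0 : omegaOneCenter 2 (pCoreOf 2 E) := ⟨w, hwU⟩
    let u1 : omegaOneCenter 2 (pCoreOf 2 E) := ⟨h * w * h⁻¹, (hUh h hh w).mp hwU⟩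
    let u2 : omegaOneCenter 2 (pCoreOf 2 E) := ⟨h * (h * w * h⁻¹) * h⁻¹, (hUh h hh _).mp u1.2⟩
    obtain ⟨u3, hu3, hu3'⟩ := heq e⁻¹ u2
    have k1 := hπ u0 u1 rfl
    have k2 := hπ u1 u2 rfl
    have k3 : ψ u3 = ψ u0 := by
      apply Multiplicative.toAdd.injective
      funext i
      rw [hu3' i, k2, k1, map_inv, inv_inv, he]
      congr 1
      simp
    have k4 : ψ (u3 * u0⁻¹) = 1 := by rw [map_mul, map_inv, k3, mul_inv_cancel]
    have k5 := ((hker _).mp k4).2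
    have k6 : ((u3 * u0⁻¹ : omegaOneCenter 2 (pCoreOf 2 E)) : G) =
        (e : G)⁻¹ * (h * h) * w * ((e : G)⁻¹ * (h * h))⁻¹ * w⁻¹ := by
      change (u3 : G) * w⁻¹ = _
      rw [hu3]
      change (e : G)⁻¹ * (h * (h * w * h⁻¹) * h⁻¹) * ((e : G)⁻¹)⁻¹ * w⁻¹ = _
      group
    rw [← k6]
    exact k5
  have h5 : h * h = (e : G) * ((e : G)⁻¹ * (h * h)) := by group
  rw [h5]
  exact mul_mem (mem_sup_left e.2) (mem_sup_right hc)

end H14.BZ
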