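import Cfsg.Agent.Lib.H56.BmZ
import Cfsg.Agent.Lib.H52.BB4

/-! S2987, piece G1. -/

set_option autoImplicit false
set_option linter.all false

namespace H14.BZ

open Subgroup Cfsg H51.FF H51.OG H52.PRes H52.PCore H51.Bau H1.Coprime2 H56.BmP H56.BmQ H56.BmV
open scoped commutatorElement MatrixGroups

variable {G : Type*} [Group G] [Finite G] {p : ℕ} [hp : Fact p.Prime]
variable {T : Sylow p G} {E : Subgroup G}

theorem C_le_nz (hG : centralizer (pCore p G : Set G) ≤ pCore p G) (hE : IsBaumannBlock p (T : Subgroup G) E)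
    (hcom : ∀ g : G, E.map (MulAut.conj g).toMonoidHom = E ∨ ⁅E.map (MulAut.conj g).toMonoidHom, E⁆ = ⊥)
    (hFP : ¬ (WB p E ⊓ centralizer (thompsonSubgroupOf p (T : Subgroup G) : Set G) ≤ centralizer (E : Set G))) :
    centralizer (omegaOne p (centerThompsonOf p (T : Subgroup G)) : Set G) ≤ normalizer (E : Set G) := by
  obtain ⟨w, ⟨hwW, hwR⟩, hwn⟩ := SetLike.not_le_iff_exists.mp hFP
  have hWV : WB p E ≤ VG p G := block_le hG hE
  have hVe : IsElementaryAbelian p (VG p G) := H13.Omega.isElementaryAbelian_omegaZ _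
  have hUE : omegaOneCenter p (pCoreOf p E) ≤ E := (H13.Omega.omegaZ_le _).trans (Subgroup.map_subtype_le _)
  have hWE : WB p E ≤ E := (commutator_mono hUE le_rfl).trans (commutator_le_self E)
  have hWT : WB p E ≤ (T : Subgroup G) := (hWV.trans (H13.Omega.omegaZ_le _)).trans (H13.Cores.pCore_le_sylow T)
  have hwR' : w ∈ centralizer (thompsonSubgroupOf p (T : Subgroup G) : Set G) := hwR
  have hwJ : w ∈ thompsonSubgroupOf p (T : Subgroup G) := by
    have h4 : (⟨w, hWT hwW⟩ : (T : Subgroup G)) ∈ thompsonSubgroup p (T : Subgroup G) := by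
      apply H13.Thompson.mem_thompson_of_centralizes
      · rw [mem_centralizer_iff]
        intro y hy
        apply Subtype.ext
        exact mem_centralizer_iff.1 hwR' y ⟨y, hy, rfl⟩
      · exact Subtype.ext (hVe.2 w (hWV hwW))
    exact ⟨_, h4, rfl⟩
  have hwO : w ∈ omegaOne p (centerThompsonOf p (T : Subgroup G)) :=
    Subgroup.subset_closure ⟨⟨hwJ, hwR'⟩, hVe.2 w (hWV hwW)⟩
  intro c hc
  rw [mem_normalizer_iff_map_conj_eq]
  rcases hcom c with h | h
  · exact h
  · exfalso
    apply hwn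
    rw [commutator_eq_bot_iff_le_centralizer] at h
    apply h
    refine ⟨w, hWE hwW, ?_⟩
    change c * w * c⁻¹ = w
    have h1 : w * c = c * w := mem_centralizer_iff.mp hc w hwO
    rw [← h1, mul_inv_cancel_right]

end H14.BZ
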