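import Cfsg.Agent.Lib.H56.BmZ
import Cfsg.Agent.Lib.H52.BB4

/-! S2987, piece G2: a norm element. -/

set_option autoImplicit false
set_option linter.all false

namespace H14.BZ

open Subgroup Cfsg H51.FF H51.OG H52.PRes H52.PCore H51.Bau H1.Coprime2 H56.BmP H56.BmQ H56.BmV
open scoped commutatorElement MatrixGroups

/-- abstract norm element -/
theorem norm_abs {G : Type*} [Group G] [Finite G] {V T E : Subgroup G} [hVn : V.Normal]
    (hVc : ∀ a ∈ V, ∀ b ∈ V, a * b = b * a)
    {w : G} (hw : w ∈ V) (hwE : w ∈ E) (hwc : ∀ r ∈ T, r ∈ normalizer (E : Set G) → r * w * r⁻¹ = w)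
    (hwn : w ∉ centralizer (E : Set G))
    (hcom : ∀ g : G, E.map (MulAut.conj g).toMonoidHom = E ∨ ⁅E.map (MulAut.conj g).toMonoidHom, E⁆ = ⊥) :
    ∃ v ∈ V, (∀ s ∈ T, s * v * s⁻¹ = v) ∧ v ∉ centralizer (E : Set G) := by
  classical
  letI : CommGroup V := { (inferInstance : Group V) with
    mul_comm := fun a b => Subtype.ext (hVc a a.2 b b.2) }
  let R : Subgroup T := (normalizer (E : Set G)).subgroupOf T
  haveI : Finite (T ⧸ R) := inferInstance
  haveI : Fintype (T ⧸ R) := Fintype.ofFinite _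
  let f : (T ⧸ R) → V := fun q => ⟨(q.out : G) * w * (q.out : G)⁻¹, hVn.conj_mem w hw _⟩
  have hf : ∀ t : T, (f (QuotientGroup.mk t) : G) = (t : G) * w * (t : G)⁻¹ := by
    intro t
    obtain ⟨r, hr⟩ := QuotientGroup.mk_out_eq_mul R t
    change ((Quotient.out (QuotientGroup.mk t : T ⧸ R) : T) : G) * w *
      ((Quotient.out (QuotientGroup.mk t : T ⧸ R) : T) : G)⁻¹ = _
    have h1 : ((Quotient.out (QuotientGroup.mk t : T ⧸ R) : T) : G) = (t : G) * ((r : T) : G) :=
      congrArg Subtype.val hr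
    have h2 := hwc ((r : T) : G) (r : T).2 r.2
    rw [h1]
    calc (t : G) * ((r : T) : G) * w * ((t : G) * ((r : T) : G))⁻¹
        = (t : G) * (((r : T) : G) * w * ((r : T) : G)⁻¹) * (t : G)⁻¹ := by group
      _ = _ := by rw [h2]
  refine ⟨(∏ q, f q : V), (∏ q, f q : V).2, ?_, ?_⟩
  · intro s hs
    let c : V →* V := (MulAut.conjNormal s : MulAut V).toMonoidHom
    have h1 : c (∏ q, f q) = ∏ q, f q := by
      rw [map_prod]
      refine Fintype.prod_equiv (MulAction.toPerm (⟨s, hs⟩ : T)) _ _ ?_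
      intro q
      obtain ⟨t, rfl⟩ := QuotientGroup.mk_surjective q
      apply Subtype.ext
      have h2 : (MulAction.toPerm (⟨s, hs⟩ : T)) (QuotientGroup.mk t : T ⧸ R) =
        (QuotientGroup.mk ((⟨s, hs⟩ : T) * t) : T ⧸ R) := rfl
      rw [h2, hf]
      change (MulAut.conjNormal s (f (QuotientGroup.mk t)) : G) = _
      rw [MulAut.conjNormal_apply, hf]
      change s * ((t : G) * w * (t : G)⁻¹) * s⁻¹ = s * (t : G) * w * (s * (t : G))⁻¹
      group
    have h3 := congrArg Subtype.val h1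
    have h4 : ((c (∏ q, f q) : V) : G) = s * ((∏ q, f q : V) : G) * s⁻¹ := MulAut.conjNormal_apply s _
    rw [h4] at h3
    exact h3
  · intro hcon
    let K : Subgroup V := (centralizer (E : Set G)).subgroupOf V
    have h1 : ∀ q : T ⧸ R, q ≠ QuotientGroup.mk 1 → f q ∈ K := by
      intro q hq
      obtain ⟨t, rfl⟩ := QuotientGroup.mk_surjective q
      rw [mem_subgroupOf, hf]
      rcases hcom t with h | h
      · exfalso
        apply hq
        rw [QuotientGroup.eq, mul_one]
        apply inv_mem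
        rw [mem_subgroupOf, mem_normalizer_iff_map_conj_eq]
        exact h
      · rw [commutator_eq_bot_iff_le_centralizer] at h
        exact h ⟨w, hwE, rfl⟩
    have h2 : f (QuotientGroup.mk 1) * ∏ q ∈ Finset.univ.erase (QuotientGroup.mk 1 : T ⧸ R), f q = ∏ q, f q :=
      Finset.mul_prod_erase _ _ (Finset.mem_univ _)
    have h3 : ∏ q ∈ Finset.univ.erase (QuotientGroup.mk 1 : T ⧸ R), f q ∈ K :=
      Subgroup.prod_mem _ (fun q hq => h1 q (Finset.ne_of_mem_erase hq))
    have h4 : (∏ q, f q) ∈ K := hcon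
    rw [← h2] at h4
    have h5 : f (QuotientGroup.mk 1) ∈ K := (Subgroup.mul_mem_cancel_right _ h3).mp h4
    rw [mem_subgroupOf, hf] at h5
    apply hwn
    simpa using h5

variable {G : Type*} [Group G] [Finite G] {p : ℕ} [hp : Fact p.Prime]
variable {T : Sylow p G} {E : Subgroup G}

theorem norm_elt (hG : centralizer (pCore p G : Set G) ≤ pCore p G) (hE : IsBaumannBlock p (T : Subgroup G) E)
    (hcom : ∀ g : G, E.map (MulAut.conj g).toMonoidHom = E ∨ ⁅E.map (MulAut.conj g).toMonoidHom, E⁆ = ⊥)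
    (T' : Sylow p G)
    (h : ¬ (WB p E ⊓ centralizer (((T' : Subgroup G) ⊓ normalizer (E : Set G) : Subgroup G) : Set G) ≤ centralizer (E : Set G))) :
    ⁅E, omegaOneCenter p (T' : Subgroup G)⁆ ≠ ⊥ := by
  obtain ⟨w, ⟨hwW, hwR⟩, hwn⟩ := SetLike.not_le_iff_exists.mp h
  have hWV : WB p E ≤ VG p G := block_le hG hE
  have hVe : IsElementaryAbelian p (VG p G) := H13.Omega.isElementaryAbelian_omegaZ _
  haveI : (VG p G).Normal := VG_normal
  have hUE : omegaOneCenter p (pCoreOf p E) ≤ E := (H13.Omega.omegaZ_le _).trans (Subgroup.map_subtype_le _)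
  have hWE : WB p E ≤ E := (commutator_mono hUE le_rfl).trans (commutator_le_self E)
  obtain ⟨v, hv, hvT, hvE⟩ := norm_abs (V := VG p G) (T := (T' : Subgroup G)) (E := E)
    (fun a ha b hb => congrArg Subtype.val (hVe.1.is_comm.comm (⟨a, ha⟩ : VG p G) ⟨b, hb⟩)) (hWV hwW) (hWE hwW) (by
      intro r hr hrn
      have h1 : r * w = w * r := mem_centralizer_iff.mp hwR r ⟨hr, hrn⟩
      rw [h1, mul_inv_cancel_right]) hwn hcom
  intro hbot
  apply hvE
  have hvT' : v ∈ (T' : Subgroup G) :=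
    ((H13.Omega.omegaZ_le _).trans (H13.Cores.pCore_le_sylow T')) hv
  have hvC : v ∈ centralizer ((T' : Subgroup G) : Set G) := by
    rw [mem_centralizer_iff]
    intro s hs
    have := hvT s hs
    calc s * v = (s * v * s⁻¹) * s := by group
      _ = v * s := by rw [this]
  have hv2 : v ∈ omegaOneCenter p (T' : Subgroup G) := by
    apply Subgroup.subset_closure
    exact ⟨⟨hvT', hvC⟩, hVe.2 v hv⟩
  rw [commutator_comm, commutator_eq_bot_iff_le_centralizer] at hbot
  exact hbot hv2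

end H14.BZ
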