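import Cfsg.Agent.Lib.H14.GF9
import Cfsg.Agent.Lib.H27.GenSub

/-!
# Glauberman's 2-factorization: odd order sections
-/

set_option autoImplicit false

universe u

namespace H14.GF

open Subgroup H14.SF Cfsg

variable {G : Type u} [Group G]

theorem elab_of {E : Type*} [Group E] {A : Subgroup E} (hc : ∀ a ∈ A, ∀ b ∈ A, a * b = b * a) (hs : ∀ a ∈ A, a * a = 1) :
    IsElementaryAbelian 2 A :=
  ⟨⟨⟨fun a b => Subtype.ext (hc a a.2 b b.2)⟩⟩, fun a ha => by rw [sq]; exact hs a ha⟩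

/-- decomposition of an odd order group under an elementary abelian 2-group -/
theorem odd_decomp {E : Type*} [Group E] [Finite E] {A O R : Subgroup E} (hc : ∀ a ∈ A, ∀ b ∈ A, a * b = b * a)
    (hs : ∀ a ∈ A, a * a = 1) (hAO : A ≤ normalizer (O : Set E)) (hO : Odd (Nat.card O))
    (hRO : R ≤ O)
    (hCR : ∀ c ∈ O, c ∈ centralizer (A : Set E) → ∀ x ∈ R, c * x * c⁻¹ ∈ R)
    (hR : ∀ B ≤ A, (∃ a ∈ A, a ∉ B) → (∀ a ∈ A, a ∉ B → ∀ b ∈ A, b ∉ B → a * b ∈ B) → ∀ x ∈ O,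
      (∀ b ∈ B, x * b = b * x) → (∀ a ∈ A, a ∉ B → a * x * a⁻¹ = x⁻¹) → x ∈ R) :
    ∀ y ∈ O, ∃ r ∈ R, ∃ c ∈ O, c ∈ centralizer (A : Set E) ∧ y = r * c := by
  haveI : Fact (Nat.Prime 2) := ⟨Nat.prime_two⟩
  set C := O ⊓ centralizer (A : Set E) with hC
  have hCn : C ≤ normalizer (R : Set E) :=
    le_normalizer_of_conj fun c hc' x hx => hCR c (mem_inf.1 hc').1 (mem_inf.1 hc').2 x hx
  have key : O ≤ R ⊔ C := by
    apply H27.GenSub.le_of_hyperplanes 2 A O (R ⊔ C) (elab_of hc hs) hAO (fun h => by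
      rw [← Nat.not_even_iff_odd] at hO
      exact hO (even_iff_two_dvd.2 h))
    intro B hBA hB y hy
    obtain ⟨hyO, hyB⟩ := mem_inf.1 hy
    by_cases hBA' : A ≤ B
    · exact (le_sup_right : C ≤ _) (mem_inf.2 ⟨hyO, centralizer_le hBA' hyB⟩)
    · obtain ⟨a, ha, haB⟩ : ∃ a ∈ A, a ∉ B := by
        by_contra hn
        push Not at hn
        exact hBA' hn
      have hB2 : B.relIndex A = 2 := by
        have h1 : B.relIndex A ≠ 1 := by
          rw [Ne, Subgroup.relIndex_eq_one]; exact hBA'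
        have := rel_pos B A
        omega
      have hprod : ∀ a ∈ A, a ∉ B → ∀ b ∈ A, b ∉ B → a * b ∈ B := by
        intro a ha haB b hb hbB
        have h1 : (B.subgroupOf A).index = 2 := hB2
        have h2 := (Subgroup.mul_mem_iff_of_index_two h1 (a := ⟨a, ha⟩) (b := ⟨b, hb⟩)).2 (by
          rw [mem_subgroupOf, mem_subgroupOf]; exact iff_of_false haB hbB)
        exact h2
      -- y = (y h) h⁻¹
      set g := y⁻¹ * (a * y * a⁻¹) with hg
      have haa := hs a ha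
      have hai : a⁻¹ = a := inv_eq_of_mul_eq_one_left haa
      have hgO : g ∈ O := mul_mem (inv_mem hyO) (nconj (hAO ha) hyO)
      have hga : a * g * a⁻¹ = g⁻¹ := by
        have e : g⁻¹ = a * y⁻¹ * a⁻¹ * y := by rw [hg]; group
        rw [e]
        calc a * g * a⁻¹ = a * y⁻¹ * a * y * (a⁻¹ * a⁻¹) := by rw [hg]; group
          _ = a * y⁻¹ * a⁻¹ * y := by rw [hai, haa, mul_one]
      have hgodd : Odd (orderOf g) := by
        have h1 : orderOf (⟨g, hgO⟩ : O) ∣ Nat.card O := orderOf_dvd_natCard _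
        rw [Subgroup.orderOf_mk] at h1
        exact hO.of_dvd_nat h1
      have hgB : ∀ b ∈ B, g * b = b * g := by
        intro b hb
        have c1 : Commute y b := (mem_centralizer_iff.1 hyB b hb).symm
        have c2 : Commute a b := hc a ha b (hBA hb)
        have c3 : Commute (y⁻¹ * (a * y * a⁻¹)) b :=
          c1.inv_left.mul_left ((c2.mul_left c1).mul_left c2.inv_left)
        exact c3
      obtain ⟨m, hm⟩ := hgodd
      set h := g ^ (m + 1) with hh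
      have hhh : h * h = g := by
        rw [hh, ← pow_add]
        have : m + 1 + (m + 1) = orderOf g + 1 := by omega
        rw [this, pow_succ, pow_orderOf_eq_one, one_mul]
      have hha : a * h * a⁻¹ = h⁻¹ := conj_pow_inv hga _
      have hhO : h ∈ O := O.pow_mem hgO _
      have hhB : ∀ b ∈ B, h * b = b * h := fun b hb => (Commute.pow_left (show Commute g b from hgB b hb) _)
      have hhR : h ∈ R := by
        apply hR B hBA ⟨a, ha, haB⟩ hprod h hhO hhB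
        intro a' ha' haB'
        have h1 := hprod a' ha' haB' a ha haB
        have h2 := hhB _ h1
        calc a' * h * a'⁻¹ = (a' * a) * (a * h * a⁻¹) * (a' * a)⁻¹ := by
              rw [mul_inv_rev, hai]
              calc a' * h * a'⁻¹ = a' * (a * a) * h * (a * a) * a'⁻¹ := by rw [haa]; group
                _ = a' * a * (a * h * a) * (a * a'⁻¹) := by group
          _ = (a' * a) * h⁻¹ * (a' * a)⁻¹ := by rw [hha]
          _ = ((a' * a) * h * (a' * a)⁻¹)⁻¹ := by group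
          _ = h⁻¹ := by rw [← h2]; group
      have hyh : y * h ∈ C := by
        refine mem_inf.2 ⟨mul_mem hyO hhO, ?_⟩
        have hca : Commute (y * h) a := by
          have e : a * (y * h) * a⁻¹ = y * h := by
            calc a * (y * h) * a⁻¹ = (a * y * a⁻¹) * (a * h * a⁻¹) := by group
              _ = (y * g) * h⁻¹ := by rw [hha, hg]; group
              _ = y * (h * h) * h⁻¹ := by rw [hhh]
              _ = y * h := by group
          show y * h * a = a * (y * h)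
          calc y * h * a = a * (y * h) * a⁻¹ * a := by rw [e]
            _ = a * (y * h) := by group
        have hcB : ∀ b ∈ B, Commute (y * h) b := fun b hb =>
          Commute.mul_left (mem_centralizer_iff.1 hyB b hb).symm (hhB b hb)
        apply mem_cent
        intro b hb
        by_cases hbB : b ∈ B
        · exact hcB b hbB
        · have h1 := hcB _ (hprod b hb hbB a ha haB)
          have h2 : b = (b * a) * a := by rw [mul_assoc, haa, mul_one]
          rw [h2]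
          exact h1.mul_right hca
      have e : y = (y * h) * h⁻¹ := by group
      rw [e]
      exact mul_mem ((le_sup_right : C ≤ _) hyh) (inv_mem ((le_sup_left : R ≤ _) hhR))
  intro y hy
  obtain ⟨r, hr, c, hc', rfl⟩ := mem_sup_norm hCn (key hy)
  exact ⟨r, hr, c, (mem_inf.1 hc').1, (mem_inf.1 hc').2, rfl⟩

/-- data for `S`, `Q`, `H` -/
structure SD (S Q H : Subgroup G) : Prop where
  pS : IsPGroup 2 S
  QS : Q ≤ S
  SQ : S ≤ normalizer (Q : Set G)
  HQ : H ≤ Q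
  Hn : H.Normal
  Hc : centralizer (H : Set G) ≤ H

/-- odd sections -/
theorem odd_section [Finite G] (hs : SBStmt G) (hfree : ¬ Involves (Equiv.Perm (Fin 4)) G) {S Q H : Subgroup G}
    (hb : SD S Q H) {A : Subgroup G} (hA : A ∈ AA S) {O : Subgroup G} (hOQ : O ≤ normalizer (Q : Set G))
    (hAO : A ≤ normalizer (O : Set G)) (hO : Odd (Q.relIndex O)) :
    ∀ u ∈ O, ∃ y ∈ normalizer (Q : Set G), y ∈ centralizer (Z1 S : Set G) ∧
      ∀ a ∈ A, (y⁻¹ * u) * a * (y⁻¹ * u)⁻¹ * a⁻¹ ∈ Q := by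
  classical
  have hAS := hA.1
  have hAQ : A ≤ normalizer (Q : Set G) := hAS.trans hb.SQ
  set M := normalizer (Q : Set G) with hM
  haveI hQn : (Q.subgroupOf M).Normal := Subgroup.normal_in_normalizer
  set π := QuotientGroup.mk' (Q.subgroupOf M) with hπd
  have hπ : ∀ g h : M, π g = π h ↔ (g : G)⁻¹ * h ∈ Q := by
    intro g h
    rw [hπd, QuotientGroup.mk'_apply, QuotientGroup.mk'_apply, QuotientGroup.eq, mem_subgroupOf]
    rfl
  have hπ1 : ∀ g : M, π g = 1 ↔ (g : G) ∈ Q := by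
    intro g
    rw [hπd, QuotientGroup.mk'_apply, QuotientGroup.eq_one_iff, mem_subgroupOf]
  set Ab := (A.subgroupOf M).map π with hAb
  set Ob := (O.subgroupOf M).map π with hOb
  have hmemAb : ∀ a (ha : a ∈ A), π ⟨a, hAQ ha⟩ ∈ Ab := fun a ha =>
    Subgroup.mem_map_of_mem π (show (⟨a, hAQ ha⟩ : M) ∈ A.subgroupOf M from ha)
  have hAbex : ∀ x ∈ Ab, ∃ a, ∃ ha : a ∈ A, x = π ⟨a, hAQ ha⟩ := by
    rintro _ ⟨⟨a, haM⟩, ha, rfl⟩
    exact ⟨a, ha, rfl⟩
  have hObex : ∀ x ∈ Ob, ∃ a, ∃ ha : a ∈ O, x = π ⟨a, hOQ ha⟩ := by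
    rintro _ ⟨⟨a, haM⟩, ha, rfl⟩
    exact ⟨a, ha, rfl⟩
  have hAbc : ∀ a ∈ Ab, ∀ b ∈ Ab, a * b = b * a := by
    intro x hx y hy
    obtain ⟨a, ha, rfl⟩ := hAbex x hx
    obtain ⟨b, hb', rfl⟩ := hAbex y hy
    rw [← map_mul, ← map_mul]
    congr 1
    exact Subtype.ext (hA.2.1 a ha b hb')
  have hAbs : ∀ a ∈ Ab, a * a = 1 := by
    intro x hx
    obtain ⟨a, ha, rfl⟩ := hAbex x hx
    rw [← map_mul, ← map_one π]
    congr 1
    exact Subtype.ext (hA.2.2.1 a ha)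
  have hAbO : Ab ≤ normalizer (Ob : Set _) := by
    apply le_normalizer_of_conj
    intro x hx y hy
    obtain ⟨a, ha, rfl⟩ := hAbex x hx
    obtain ⟨o, ho, rfl⟩ := hObex y hy
    rw [← map_inv, ← map_mul, ← map_mul]
    have h1 : a * o * a⁻¹ ∈ O := nconj (hAO ha) ho
    exact Subgroup.mem_map_of_mem π (show (⟨a, hAQ ha⟩ * ⟨o, hOQ ho⟩ * (⟨a, hAQ ha⟩)⁻¹ : M) ∈ O.subgroupOf M from
      mem_subgroupOf.2 h1)
  have hOodd : Odd (Nat.card Ob) := by
    have h1 : Nat.card Ob = (Q.subgroupOf M).relIndex (O.subgroupOf M) := by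
      have hker : π.ker = Q.subgroupOf M := QuotientGroup.ker_mk' _
      rw [hOb, ← Subgroup.relIndex_ker, hker]
    rw [h1, Subgroup.relIndex_subgroupOf hOQ]
    exact hO
  -- generators
  set R : Subgroup (M ⧸ Q.subgroupOf M) := closure {x | x ∈ Ob ∧ ∃ B ≤ Ab, (∃ a ∈ Ab, a ∉ B) ∧
    (∀ a ∈ Ab, a ∉ B → ∀ b ∈ Ab, b ∉ B → a * b ∈ B) ∧ (∀ b ∈ B, x * b = b * x) ∧
    ∀ a ∈ Ab, a ∉ B → a * x * a⁻¹ = x⁻¹} with hR
  have hRO : R ≤ Ob := by rw [hR, closure_le]; exact fun x hx => hx.1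
  have hRC : ∀ c ∈ Ob, c ∈ centralizer (Ab : Set _) → ∀ x ∈ R, c * x * c⁻¹ ∈ R := by
    intro c hc hcA x hx
    have h1 : R ≤ R.comap (MulAut.conj c).toMonoidHom := by
      conv_lhs => rw [hR]
      rw [closure_le]
      rintro y ⟨hyO, B, hBA, hB1, hB2, hB3, hB4⟩
      show c * y * c⁻¹ ∈ R
      have hcc : ∀ a ∈ Ab, Commute c a := fun a ha => cent_comm hcA ha
      refine subset_closure ⟨mul_mem (mul_mem hc hyO) (inv_mem hc), B, hBA, hB1, hB2, ?_, ?_⟩
      · intro b hb'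
        have c1 := hcc b (hBA hb')
        have c2 : Commute y b := hB3 b hb'
        exact (c1.mul_left c2).mul_left c1.inv_left
      · intro a ha haB
        have c1 := hcc a ha
        have h3 := hB4 a ha haB
        have e1 : a * c = c * a := c1.symm.eq
        have e2 : c⁻¹ * a⁻¹ = a⁻¹ * c⁻¹ := (c1.inv_inv).eq
        calc a * (c * y * c⁻¹) * a⁻¹ = (a * c) * y * (c⁻¹ * a⁻¹) := by group
          _ = c * (a * y * a⁻¹) * c⁻¹ := by rw [e1, e2]; group
          _ = (c * y * c⁻¹)⁻¹ := by rw [h3]; group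
    exact h1 hx
  have hRG : ∀ x ∈ R, ∃ y, ∃ hy : y ∈ M, y ∈ centralizer (Z1 S : Set G) ∧ π ⟨y, hy⟩ = x := by
    intro x hx
    have h1 : R ≤ ((centralizer (Z1 S : Set G)).subgroupOf M).map π := by
      rw [hR, closure_le]
      rintro y ⟨hyO, B, hBA, ⟨a₀, ha₀, ha₀B⟩, hB2, hB3, hB4⟩
      obtain ⟨x₁, hx₁, rfl⟩ := hObex y hyO
      by_cases hx1 : x₁ ∈ Q
      · have h2 : π ⟨x₁, hOQ hx₁⟩ = 1 := (hπ1 _).2 hx1
        show π ⟨x₁, hOQ hx₁⟩ ∈ _
        rw [h2]; exact one_mem _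
      set D : Subgroup G := A ⊓ (B.comap π).map M.subtype with hD
      have hmemD : ∀ a (ha : a ∈ A), a ∈ D ↔ π ⟨a, hAQ ha⟩ ∈ B := by
        intro a ha
        constructor
        · intro h
          obtain ⟨⟨b, hbM⟩, hb1, hb2⟩ := (mem_inf.1 h).2
          have hb2' : b = a := hb2
          subst hb2'
          exact hb1
        · intro h
          exact mem_inf.2 ⟨ha, ⟨⟨a, hAQ ha⟩, h, rfl⟩⟩
      have hBD : BD S A Q D H := by
        refine ⟨hb.pS, hA, hb.QS, hb.SQ, hb.HQ, hb.Hn, hb.Hc, inf_le_left, ?_, ?_⟩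
        · intro a ha
          obtain ⟨ha1, ha2⟩ := mem_inf.1 ha
          rw [hmemD a ha1, (hπ1 _).2 ha2]
          exact one_mem _
        · obtain ⟨a, ha, rfl⟩ := hAbex a₀ ha₀
          exact ⟨a, ha, fun hh => ha₀B ((hmemD a ha).1 hh)⟩
      have hn : x₁ ^ Nat.card Ob ∈ Q := by
        have h4 : ((⟨x₁, hOQ hx₁⟩ ^ Nat.card Ob : M) : G) ∈ Q := by
          rw [← hπ1, map_pow]
          have h2 : (⟨π ⟨x₁, hOQ hx₁⟩, hyO⟩ : Ob) ^ Nat.card Ob = 1 := pow_card_eq_one'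
          exact congrArg Subtype.val h2
        simpa using h4
      obtain ⟨y, hyM, hyZ, hyx⟩ := kd hs hfree hBD (by
        intro a ha haD b hb' hbD
        rw [hmemD a ha] at haD
        rw [hmemD b hb'] at hbD
        have := hB2 _ (hmemAb a ha) haD _ (hmemAb b hb') hbD
        rw [hmemD (a * b) (mul_mem ha hb')]
        rwa [← map_mul] at this) (hOQ hx₁) hOodd hn hx1 (by
        intro d hd
        have hdA := (mem_inf.1 hd).1
        have h2 := hB3 _ ((hmemD d hdA).1 hd)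
        have h3 : π (⟨x₁, hOQ hx₁⟩ * ⟨d, hAQ hdA⟩ * (⟨x₁, hOQ hx₁⟩)⁻¹ * (⟨d, hAQ hdA⟩)⁻¹) = 1 := by
          rw [map_mul, map_mul, map_mul, h2, map_inv, map_inv]; group
        exact (hπ1 _).1 h3) (by
        intro a ha haD
        rw [hmemD a ha] at haD
        have h2 := hB4 _ (hmemAb a ha) haD
        have h3 : π (⟨a, hAQ ha⟩ * ⟨x₁, hOQ hx₁⟩ * (⟨a, hAQ ha⟩)⁻¹ * ⟨x₁, hOQ hx₁⟩) = 1 := by
          rw [map_mul, map_mul, map_mul, map_inv, h2]; group
        exact (hπ1 _).1 h3)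
      exact ⟨⟨y, hyM⟩, hyZ, (hπ _ _).2 hyx⟩
    obtain ⟨⟨y, hy⟩, hyZ, rfl⟩ := h1 hx
    exact ⟨y, hy, hyZ, rfl⟩
  have hdec := odd_decomp hAbc hAbs hAbO hOodd hRO hRC (fun B hBA h1 h2 x hx h3 h4 =>
    subset_closure ⟨hx, B, hBA, h1, h2, h3, h4⟩)
  intro u hu
  obtain ⟨r, hr, c, hcO, hcA, huc⟩ := hdec (π ⟨u, hOQ hu⟩)
    (Subgroup.mem_map_of_mem π (show (⟨u, hOQ hu⟩ : M) ∈ O.subgroupOf M from hu))
  obtain ⟨y, hyM, hyZ, hyr⟩ := hRG r hr
  refine ⟨y, hyM, hyZ, fun a ha => ?_⟩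
  have h1 : π ((⟨y, hyM⟩)⁻¹ * ⟨u, hOQ hu⟩) = c := by
    rw [map_mul, map_inv, hyr, huc]; group
  have h2 := cent_comm hcA (hmemAb a ha)
  have h3 : π (((⟨y, hyM⟩)⁻¹ * ⟨u, hOQ hu⟩) * ⟨a, hAQ ha⟩ * ((⟨y, hyM⟩)⁻¹ * ⟨u, hOQ hu⟩)⁻¹ * (⟨a, hAQ ha⟩)⁻¹) = 1 := by
    rw [map_mul, map_mul, map_mul, h1, map_inv, h1, map_inv, h2]; group
  exact (hπ1 _).1 h3

end H14.GF
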