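import Cfsg.Agent.Lib.H14.GF10
import Cfsg.Agent.Lib.H51.Involves

/-!
# Glauberman's 2-factorization: the configuration covering a simple group
-/

set_option autoImplicit false

universe u

namespace H14.GF

open Subgroup H14.SF Cfsg

variable {G : Type u} [Group G]

/-- the type-1 configuration -/
theorem ktype [Finite G] (hs : SBStmt G) {S Q H : Subgroup G} (hb : SD S Q H) {A : Subgroup G} (hA : A ∈ AA S)
    {N : Subgroup G} [N.Normal] (hQN : Q ≤ N) {T : Type*} [Group T] [IsSimpleGroup T] {q : ℕ} (hT : TFact T q)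
    (τ : ↥A →* T) (θ : T →* G ⧸ N) (hinj : Function.Injective θ) (hτN : ∀ a : A, (a : G) ∈ N → τ a = 1)
    (hne : ∃ a, τ a ≠ 1)
    (hact : ∀ (a : A) (t : T), (QuotientGroup.mk (a : G) : G ⧸ N) * θ t * (QuotientGroup.mk (a : G))⁻¹ =
      θ (τ a * t * (τ a)⁻¹))
    (hlift : ∀ t : T, ∃ g ∈ normalizer (Q : Set G), (∀ a : A, τ a = 1 → g * a * g⁻¹ * (a : G)⁻¹ ∈ Q) ∧
      (QuotientGroup.mk g : G ⧸ N) = θ t) :
    ∃ L : Subgroup G, L ≤ normalizer (Q : Set G) ∧ L ≤ centralizer (Z1 S : Set G) ∧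
      ∀ t : T, ∃ l ∈ L, (QuotientGroup.mk l : G ⧸ N) = θ t := by
  classical
  have hAS := hA.1
  have hAQ : A ≤ normalizer (Q : Set G) := hAS.trans hb.SQ
  have hAc := hA.2.1
  set ψ := QuotientGroup.mk' N with hψ
  have hψN : ∀ g : G, ψ g = 1 ↔ g ∈ N := fun g => QuotientGroup.eq_one_iff g
  set D : Subgroup G := τ.ker.map A.subtype with hD
  have hDA : D ≤ A := Subgroup.map_subtype_le _
  have hmemD : ∀ a (ha : a ∈ A), a ∈ D ↔ τ ⟨a, ha⟩ = 1 := by
    intro a ha
    constructor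
    · rintro ⟨⟨b, hb1⟩, hb2, hb3⟩
      have hb3' : b = a := hb3
      subst hb3'
      exact hb2
    · intro h
      exact ⟨⟨a, ha⟩, h, rfl⟩
  have hBD : BD S A Q D H := by
    refine ⟨hb.pS, hA, hb.QS, hb.SQ, hb.HQ, hb.Hn, hb.Hc, hDA, ?_, ?_⟩
    · intro a ha
      obtain ⟨h1, h2⟩ := mem_inf.1 ha
      rw [hmemD a h1]
      exact hτN ⟨a, h1⟩ (hQN h2)
    · obtain ⟨a, ha⟩ := hne
      exact ⟨a, a.2, fun h => ha ((hmemD a a.2).1 h)⟩
  have hrq : D.relIndex A ^ 2 ≤ q := by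
    have h1 : D.relIndex A = Nat.card τ.range := by
      have h2 : D.subgroupOf A = τ.ker := by
        ext a
        rw [mem_subgroupOf, hmemD a a.2]
        exact Iff.rfl
      unfold Subgroup.relIndex
      rw [h2, Subgroup.index_ker]
    rw [h1]
    apply hT.el
    · rintro _ ⟨a, rfl⟩ _ ⟨b, rfl⟩
      rw [← map_mul, ← map_mul]
      congr 1
      exact Subtype.ext (hAc a a.2 b b.2)
    · rintro _ ⟨a, rfl⟩
      rw [← map_mul]
      have : a * a = 1 := Subtype.ext (hA.2.2.1 a a.2)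
      rw [this, map_one]
  -- the involutions of T
  have hτ2 : ∀ a : A, τ a * τ a = 1 := by
    intro a
    rw [← map_mul]
    have : a * a = 1 := Subtype.ext (hA.2.2.1 a a.2)
    rw [this, map_one]
  let P : Subgroup G → Prop := fun L => ∀ t : T, ∃ l ∈ L, ψ l = θ t
  -- normal subgroups of T
  have hPnormal : ∀ L N' : Subgroup G, P L → L ≤ normalizer (N' : Set G) → ∀ x ∈ N', ∀ x₀ : T, x₀ ≠ 1 → ψ x = θ x₀ →
      P N' := by
    intro L N' hPL hLN x hx x₀ hx₀ hxx₀
    set K : Subgroup T := (N'.map ψ).comap θ with hK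
    haveI hKn : K.Normal := by
      constructor
      intro t ht s
      obtain ⟨n, hn, hnt⟩ := ht
      obtain ⟨l, hl, hls⟩ := hPL s
      refine ⟨l * n * l⁻¹, nconj (hLN hl) hn, ?_⟩
      rw [map_mul, map_mul, map_inv, map_mul, map_mul, map_inv, hnt, hls]
    rcases IsSimpleGroup.eq_bot_or_eq_top_of_normal K hKn with h | h
    · exfalso
      have : x₀ ∈ K := ⟨x, hx, hxx₀⟩
      rw [h, mem_bot] at this
      exact hx₀ this
    · intro t
      have : t ∈ K := by rw [h]; exact mem_top _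
      exact this
  have key := cover_main hBD P ?_ ?_ ?_
  · obtain ⟨L, hL, hPL, hLZ⟩ := key
    exact ⟨L, hL.LQ, hLZ, hPL⟩
  · -- existence
    refine ⟨secC Q D ⊓ θ.range.comap ψ, ⟨?_, ?_, ?_⟩, ?_⟩
    · exact fun x hx => (mem_inf.1 hx).1.1
    · apply le_normalizer_of_conj
      intro a ha x hx
      obtain ⟨h1, h2⟩ := mem_inf.1 hx
      refine mem_inf.2 ⟨secC_conj (hAQ ha) ?_ h1, ?_⟩
      · have : A ≤ normalizer (D : Set G) := by
          apply le_normalizer_of_conj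
          intro k hk y hy
          rw [hAc k hk y (hDA hy), mul_inv_cancel_right]
          exact hy
        exact this ha
      · obtain ⟨t, ht⟩ := h2
        refine ⟨τ ⟨a, ha⟩ * t * (τ ⟨a, ha⟩)⁻¹, ?_⟩
        rw [← hact ⟨a, ha⟩ t, ht]
        rfl
    · intro l hl d hd
      exact (mem_inf.1 hl).1.2 d hd
    · intro t
      obtain ⟨g, hg1, hg2, hg3⟩ := hlift t
      refine ⟨g, mem_inf.2 ⟨⟨hg1, fun a ha => ?_⟩, ⟨t, hg3.symm⟩⟩, hg3⟩
      exact hg2 ⟨a, hDA ha⟩ ((hmemD a (hDA ha)).1 ha)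
  · -- odd parts
    intro L hL hPL
    set L' : Subgroup G := closure {x | x ∈ L ∧ Odd (orderOf x)} with hL'
    set K : Subgroup T := closure {t | Odd (orderOf t)} with hK
    have hKL : K ≤ (L'.map ψ).comap θ := by
      rw [hK, closure_le]
      intro t ht
      obtain ⟨l, hl, hlt⟩ := hPL t
      obtain ⟨c, hc1, hc2⟩ := exists_odd_part l ht
      refine ⟨l ^ c, subset_closure ⟨L.pow_mem hl c, hc1⟩, ?_⟩
      have h1 : l ^ orderOf t ∈ N := by
        rw [← hψN, map_pow, hlt, ← map_pow, pow_orderOf_eq_one, map_one]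
      have h2 := hc2 N h1
      rw [← hψN, map_mul, map_inv, inv_mul_eq_one] at h2
      rw [← h2, hlt]
    haveI hKn : K.Normal := by
      constructor
      intro t ht s
      have h1 : K ≤ K.comap (MulAut.conj s).toMonoidHom := by
        conv_lhs => rw [hK]
        rw [closure_le]
        intro y hy
        show s * y * s⁻¹ ∈ K
        refine subset_closure ?_
        have : orderOf (s * y * s⁻¹) = orderOf y := by
          have := orderOf_injective (MulAut.conj s).toMonoidHom (MulAut.conj s).injective y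
          simpa using this
        show Odd (orderOf (s * y * s⁻¹))
        rw [this]; exact hy
      exact h1 ht
    obtain ⟨a, ha⟩ := hne
    obtain ⟨x₀, hl, hl2, -, -, -⟩ := hT.inv (τ a) ha (hτ2 a)
    have hx₀ : x₀ ≠ 1 := by
      rintro rfl
      rw [orderOf_one] at hl
      exact Nat.not_prime_one hl
    rcases IsSimpleGroup.eq_bot_or_eq_top_of_normal K hKn with h | h
    · exfalso
      have : x₀ ∈ K := subset_closure (hl.odd_of_ne_two hl2)
      rw [h, mem_bot] at this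
      exact hx₀ this
    · intro t
      have : t ∈ K := by rw [h]; exact mem_top _
      exact hKL this
  · -- inversion
    intro L hL hPL v hv hvD
    have hvv := hA.2.2.1 v hv
    set t₀ := τ ⟨v, hv⟩ with ht₀
    have ht₀1 : t₀ ≠ 1 := fun h => hvD ((hmemD v hv).2 h)
    obtain ⟨x₀, hl, hl2, hinvx, hcent, hdiv⟩ := hT.inv t₀ ht₀1 (hτ2 _)
    have hlodd : Odd (orderOf x₀) := hl.odd_of_ne_two hl2
    have hx₀ : x₀ ≠ 1 := by
      rintro rfl
      rw [orderOf_one] at hl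
      exact Nat.not_prime_one hl
    obtain ⟨m, hm⟩ := id hlodd
    set s₀ := x₀ ^ (m + 1) with hs₀
    have hs₀s₀ : s₀ * s₀ = x₀ := by
      rw [hs₀, ← pow_add]
      have : m + 1 + (m + 1) = orderOf x₀ + 1 := by omega
      rw [this, pow_succ, pow_orderOf_eq_one, one_mul]
    obtain ⟨l₁, hl₁, hl₁s⟩ := hPL s₀
    set w := l₁ * v * l₁⁻¹ * v⁻¹ with hw
    have hwL : w ∈ L := by
      have := mul_mem hl₁ (nconj (hL.AL hv) (inv_mem hl₁))
      have e : l₁ * (v * l₁⁻¹ * v⁻¹) = w := by rw [hw]; group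
      rwa [e] at this
    have hψw : ψ w = θ x₀ := by
      have h1 : ψ v * θ s₀⁻¹ * (ψ v)⁻¹ = θ s₀ := by
        have h2 := hact ⟨v, hv⟩ s₀⁻¹
        have h3 : t₀ * s₀ * t₀⁻¹ = s₀⁻¹ := conj_pow_inv hinvx _
        have h4 : t₀ * s₀⁻¹ * t₀⁻¹ = s₀ := by
          calc t₀ * s₀⁻¹ * t₀⁻¹ = (t₀ * s₀ * t₀⁻¹)⁻¹ := by group
            _ = s₀ := by rw [h3, inv_inv]
        rw [← ht₀, h4] at h2
        exact h2
      calc ψ w = ψ l₁ * (ψ v * (ψ l₁)⁻¹ * (ψ v)⁻¹) := by
            rw [hw, map_mul, map_mul, map_mul, map_inv, map_inv]; group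
        _ = θ s₀ * θ s₀ := by rw [hl₁s, ← map_inv θ, h1]
        _ = θ x₀ := by rw [← map_mul, hs₀s₀]
    obtain ⟨c, hc1, k, hk⟩ := H51.Involves.exists_pow_pElement hl w 1
    have hx₀c : x₀ ^ c = x₀ := by
      have h1 : x₀ ^ c = x₀ ^ 1 := by
        rw [pow_eq_pow_iff_modEq]
        rwa [pow_one] at hc1
      rw [h1, pow_one]
    have hψx : ψ (w ^ c) = θ x₀ := by rw [map_pow, hψw, ← map_pow, hx₀c]
    have hxo : Odd (orderOf (w ^ c)) := by rw [hk]; exact hlodd.pow
    have hvx : v * w ^ c * v⁻¹ = (w ^ c)⁻¹ := conj_pow_inv (inv_comm hvv) c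
    have hxL : w ^ c ∈ L := L.pow_mem hwL c
    refine ⟨w ^ c, hxL, hxo, hvx, ?_, ?_, ?_⟩
    · intro a ha haD hcomm
      have h1 := hact ⟨a, ha⟩ x₀
      have h2 : (QuotientGroup.mk a : G ⧸ N) * θ x₀ * (QuotientGroup.mk a)⁻¹ = θ x₀ := by
        rw [← hψx]
        show ψ a * ψ (w ^ c) * (ψ a)⁻¹ = ψ (w ^ c)
        rw [← map_mul, hcomm, map_mul, mul_inv_cancel_right]
      rw [h2] at h1
      have h3 := hinj h1
      set t₁ := τ ⟨a, ha⟩ with ht₁
      have ht₁1 : t₁ ≠ 1 := fun h => haD ((hmemD a ha).2 h)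
      have ht₁c : t₁ ∈ centralizer ({x₀} : Set T) := by
        rw [mem_centralizer_iff]
        rintro y rfl
        have h4 : y * t₁ = t₁ * y * t₁⁻¹ * t₁ := by rw [← h3]
        rw [h4]; group
      have h5 : orderOf t₁ = 2 := orderOf_eq_prime (by rw [sq]; exact hτ2 _) ht₁1
      have h6 : orderOf (⟨t₁, ht₁c⟩ : centralizer ({x₀} : Set T)) ∣ Nat.card (centralizer ({x₀} : Set T)) :=
        orderOf_dvd_natCard _
      rw [Subgroup.orderOf_mk, h5] at h6
      rw [← Nat.not_even_iff_odd] at hcent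
      exact hcent (even_iff_two_dvd.2 h6)
    · intro N' _ _ hLN' hxN'
      exact hPnormal L N' hPL hLN' _ hxN' x₀ hx₀ hψx
    · apply SB_of hs hvv hvx hxo
      intro l' d hl' hl'x hd hld _
      rw [hk] at hl'x
      have h1 : l' = orderOf x₀ := (Nat.prime_dvd_prime_iff_eq hl' hl).1 (hl'.dvd_of_dvd_pow hl'x)
      rw [h1] at hld
      exact hrq.trans (hdiv d hd hld)

end H14.GF
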