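import Cfsg.Agent.Lib.H14.GF11
import Cfsg.Agent.Lib.H8.TH1
import Cfsg.Agent.Lib.H8.TF5
import Cfsg.Agent.Lib.H13.SylowN

/-!
# Glauberman's 2-factorization: components of the chief factor
-/

set_option autoImplicit false

universe u

namespace H14.GF

open Subgroup H14.SF Cfsg

variable {G : Type u} [Group G]

/-- nonabelian simple groups are generated by the elements of odd order -/
theorem gen_odd {T : Type*} [Group T] [Finite T] [IsSimpleGroup T] (hnc : ¬ ∀ a b : T, a * b = b * a) :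
    closure {t : T | Odd (orderOf t)} = ⊤ := by
  haveI : Fact (Nat.Prime 2) := ⟨Nat.prime_two⟩
  set K : Subgroup T := closure {t : T | Odd (orderOf t)} with hK
  have hKn : K.Normal := by
    constructor
    intro t ht s
    have h1 : K ≤ K.comap (MulAut.conj s).toMonoidHom := by
      conv_lhs => rw [hK]
      rw [closure_le]
      intro y hy
      show s * y * s⁻¹ ∈ K
      refine subset_closure ?_
      have : orderOf (s * y * s⁻¹) = orderOf y := by
        have := orderOf_injective (MulAut.conj s).toMonoidHom (MulAut.conj s).injective y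
        simpa using this
      show Odd (orderOf (s * y * s⁻¹))
      rw [this]; exact hy
    exact h1 ht
  rcases IsSimpleGroup.eq_bot_or_eq_top_of_normal K hKn with h | h
  · exfalso
    have hP : IsPGroup 2 T := by
      intro g
      obtain ⟨k, m, hm, hgm⟩ := Nat.exists_eq_pow_mul_and_not_dvd (orderOf_pos g).ne' 2 (by norm_num)
      refine ⟨k, ?_⟩
      have h1 : (g ^ 2 ^ k) ^ m = 1 := by rw [← pow_mul, ← hgm, pow_orderOf_eq_one]
      have hmo : Odd m := by
        rw [← Nat.not_even_iff_odd]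
        exact fun h => hm h.two_dvd
      have h2 : g ^ 2 ^ k ∈ K := subset_closure (hmo.of_dvd_nat (orderOf_dvd_of_pow_eq_one h1))
      rw [h, mem_bot] at h2
      exact h2
    have h1 := hP.center_nontrivial
    rcases IsSimpleGroup.eq_bot_or_eq_top_of_normal (center T) inferInstance with h2 | h2
    · rw [h2] at h1
      exact absurd h1 (by rw [Subgroup.nontrivial_iff_ne_bot]; exact fun hh => hh rfl)
    · apply hnc
      intro a b
      have : a ∈ center T := by rw [h2]; exact mem_top _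
      exact (mem_center_iff.1 this b).symm
  · exact h

/-- normal subgroups of odd order generate a group of odd order -/
theorem odd_gen {E : Type*} [Group E] [Finite E] {P T : Subgroup E} [P.Normal] (hTP : T ≤ P)
    (PT : P ≤ normalizer (T : Set E)) (hgen : ∀ K : Subgroup E, (∀ (g : E), ∀ t ∈ T, g * t * g⁻¹ ∈ K) → P ≤ K)
    (hT : Odd (Nat.card T)) : Odd (Nat.card P) := by
  obtain ⟨K, ⟨hKP, hPK, hKo⟩, hmax⟩ : ∃ K : Subgroup E, Maximal (fun K => K ≤ P ∧ P ≤ normalizer (K : Set E) ∧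
      Odd (Nat.card K)) K := by
    apply Set.Finite.exists_maximal (Set.toFinite {K : Subgroup E | K ≤ P ∧ P ≤ normalizer (K : Set E) ∧
      Odd (Nat.card K)})
    refine ⟨⊥, bot_le, ?_, by rw [Subgroup.card_bot]; exact odd_one⟩
    rw [normalizer_eq_top]; exact le_top
  have h1 : P ≤ K := by
    apply hgen
    intro g t ht
    have h2 : cj g T ≤ P := by
      have := cj_mono (k := g) hTP
      rwa [cj_normal (k := g) (H := P)] at this
    have h3 : P ≤ normalizer (cj g T : Set E) := by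
      have := cj_mono (k := g) PT
      rwa [cj_normal (k := g) (H := P), cj_normalizer] at this
    have h4 : Odd (Nat.card (cj g T)) := by rw [card_cj]; exact hT
    have h5 : Odd (Nat.card (K ⊔ cj g T : Subgroup E)) := by
      have h6 := H13.Thompson.card_sup_mul_card_inf (hKP.trans h3)
      have h7 : Nat.card (K ⊔ cj g T : Subgroup E) ∣ Nat.card K * Nat.card (cj g T) := ⟨_, h6.symm⟩
      exact (hKo.mul h4).of_dvd_nat h7
    have h6 : P ≤ normalizer ((K ⊔ cj g T : Subgroup E) : Set E) := by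
      apply le_normalizer_of_conj
      intro p hp
      have h7 : K ⊔ cj g T ≤ cj p⁻¹ (K ⊔ cj g T) := by
        refine sup_le ?_ ?_
        · intro x hx
          rw [mem_cj, inv_inv]
          exact (le_sup_left : K ≤ _) (nconj (hPK hp) hx)
        · intro x hx
          rw [mem_cj, inv_inv]
          exact (le_sup_right : cj g T ≤ _) (nconj (h3 hp) hx)
      intro x hx
      have := mem_cj.1 (h7 hx)
      rwa [inv_inv] at this
    have h7 := hmax ⟨sup_le hKP h2, h6, h5⟩ le_sup_left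
    exact h7 ((le_sup_right : cj g T ≤ _) (conj_mem_cj ht))
  rw [le_antisymm h1 hKP]
  exact hKo

/-- relative index -/
theorem odd_rel [Finite G] (S : Sylow 2 G) {N : Subgroup G} [N.Normal] {O : Subgroup G}
    (hQO : (S : Subgroup G) ⊓ N ≤ O) (hO : Odd (Nat.card (O.map (QuotientGroup.mk' N)))) :
    Odd (((S : Subgroup G) ⊓ N).relIndex O) := by
  haveI : Fact (Nat.Prime 2) := ⟨Nat.prime_two⟩
  set Q := (S : Subgroup G) ⊓ N with hQ
  have hQN : Q ≤ N := inf_le_right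
  have h1 : Q.relIndex (O ⊓ N) * (O ⊓ N).relIndex O = Q.relIndex O :=
    Subgroup.relIndex_mul_relIndex _ _ _ (le_inf hQO hQN) inf_le_left
  have h2 : Q.relIndex (O ⊓ N) * (O ⊓ N).relIndex N = Q.relIndex N :=
    Subgroup.relIndex_mul_relIndex _ _ _ (le_inf hQO hQN) inf_le_right
  have h3 : Odd (Q.relIndex N) := by
    have h4 : Q.relIndex N = (S : Subgroup G).relIndex N := Subgroup.inf_relIndex_right _ _
    have h5 : (S : Subgroup G).relIndex N ∣ (S : Subgroup G).index :=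
      H13.SylowN.index_inf_dvd _ (by rw [normalizer_eq_top]; exact le_top)
    rw [h4]
    have h6 : ¬ 2 ∣ (S : Subgroup G).index := S.not_dvd_index
    rw [← Nat.not_even_iff_odd, even_iff_two_dvd]
    exact fun h => h6 (h.trans h5)
  have h4 : Odd (Q.relIndex (O ⊓ N)) := h3.of_dvd_nat ⟨_, h2.symm⟩
  have h5 : (O ⊓ N).relIndex O = Nat.card (O.map (QuotientGroup.mk' N)) := by
    rw [Subgroup.inf_relIndex_left, ← Subgroup.relIndex_ker, QuotientGroup.ker_mk']
  rw [← h1, h5]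
  exact h4.mul hO

/-- lifting of elements centralised by a 2-group -/
def LiftStmt (S : Subgroup G) (N : Subgroup G) [N.Normal] : Prop :=
  ∀ D : Subgroup G, D ≤ S → ∀ e : G ⧸ N, (∀ d ∈ D, e * (QuotientGroup.mk d) = (QuotientGroup.mk d) * e) →
    ∃ g ∈ normalizer ((S ⊓ N : Subgroup G) : Set G), (∀ d ∈ D, g * d * g⁻¹ * d⁻¹ ∈ S ⊓ N) ∧
      (QuotientGroup.mk g : G ⧸ N) = e

/-- the basic data -/
theorem sd_of {S N H : Subgroup G} [N.Normal] [Finite G] (pS : IsPGroup 2 S) (hH : H.Normal)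
    (hHc : centralizer (H : Set G) ≤ H) (hHS : H ≤ S) (hHN : H ≤ N) : SD S (S ⊓ N) H := by
  refine ⟨pS, inf_le_left, ?_, le_inf hHS hHN, hH, hHc⟩
  apply le_normalizer_of_conj
  intro s hs x hx
  exact mem_inf.2 ⟨mul_mem (mul_mem hs (mem_inf.1 hx).1) (inv_mem hs),
    (inferInstance : N.Normal).conj_mem _ (mem_inf.1 hx).2 s⟩

/-- covering of a component -/
theorem comp_cover [Finite G] (hs : SBStmt G) (hfree : ¬ Involves (Equiv.Perm (Fin 4)) G) (S : Sylow 2 G)
    {H : Subgroup G} (hH : H.Normal) (hHc : centralizer (H : Set G) ≤ H) (hHS : H ≤ S)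
    {N N₁ : Subgroup G} [N.Normal] [N₁.Normal] (hHN : H ≤ N) (hNN₁ : N ≤ N₁)
    (hlift : LiftStmt (S : Subgroup G) N) {A : Subgroup G} (hA : A ∈ AA (S : Subgroup G))
    (T : Subgroup (G ⧸ N)) [IsSimpleGroup T] (hTT : IsSuzukiOrPSL2OddPowerThree T)
    (hnc : ¬ (∀ a ∈ T, ∀ b ∈ T, a * b = b * a)) (TP : T ≤ N₁.map (QuotientGroup.mk' N))
    (PT : N₁.map (QuotientGroup.mk' N) ≤ normalizer (T : Set (G ⧸ N)))
    (hnot : ¬ A.map (QuotientGroup.mk' N) ≤ centralizer (T : Set (G ⧸ N))) :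
    ∀ k ∈ T, ∃ c ∈ centralizer (T : Set (G ⧸ N)),
      k * c ∈ (centralizer (Z1 (S : Subgroup G) : Set G) ⊓
        normalizer (((S : Subgroup G) ⊓ N : Subgroup G) : Set G) ⊓ N₁).map (QuotientGroup.mk' N) := by
  classical
  haveI : Fact (Nat.Prime 2) := ⟨Nat.prime_two⟩
  have hb : SD (S : Subgroup G) ((S : Subgroup G) ⊓ N) H := sd_of S.2 hH hHc hHS hHN
  set ψ := QuotientGroup.mk' N with hψ
  have hψN : ∀ g : G, ψ g = 1 ↔ g ∈ N := fun g => QuotientGroup.eq_one_iff g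
  have hψN₁ : ∀ g : G, ψ g ∈ N₁.map ψ → g ∈ N₁ := by
    rintro g ⟨n, hn, hng⟩
    have h1 : ψ (n⁻¹ * g) = 1 := by rw [map_mul, map_inv, hng]; group
    have h2 := mul_mem hn (hNN₁ ((hψN _).1 h1))
    have e : n * (n⁻¹ * g) = g := by group
    rwa [e] at h2
  set Q := (S : Subgroup G) ⊓ N with hQ
  have hAS := hA.1
  have hAQ : A ≤ normalizer (Q : Set G) := hAS.trans hb.SQ
  set Γ := (centralizer (Z1 (S : Subgroup G) : Set G) ⊓ normalizer (Q : Set G) ⊓ N₁) with hΓ
  have hPn : (N₁.map ψ).Normal := Subgroup.Normal.map inferInstance ψ (QuotientGroup.mk'_surjective N)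
  have hAbc : ∀ a ∈ A.map ψ, ∀ b ∈ A.map ψ, a * b = b * a := by
    rintro _ ⟨a, ha, rfl⟩ _ ⟨b, hb', rfl⟩
    rw [← map_mul, ← map_mul, hA.2.1 a ha b hb']
  have hAbs : ∀ a ∈ A.map ψ, a * a = 1 := by
    rintro _ ⟨a, ha, rfl⟩
    rw [← map_mul, hA.2.2.1 a ha, map_one]
  have hfreeE : ¬ Involves (Equiv.Perm (Fin 4)) (G ⧸ N) := fun h =>
    hfree (H51.Involves.involves_of_hom ψ (QuotientGroup.mk'_surjective N) h)
  have hinn : ∀ a ∈ A.map ψ, a ∈ normalizer (T : Set (G ⧸ N)) → ∃ t ∈ T, ∀ x ∈ T, a * x * a⁻¹ = t * x * t⁻¹ :=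
    fun a ha haT => H8.TF.inner' hfreeE T hTT a haT (hAbs a ha)
  have hcenT : ∀ c ∈ T, c ∈ centralizer (T : Set (G ⧸ N)) → c = 1 := by
    intro c hc hcT
    rcases IsSimpleGroup.eq_bot_or_eq_top_of_normal (center T) inferInstance with h2 | h2
    · have h3 : (⟨c, hc⟩ : T) ∈ center T := by
        rw [mem_center_iff]
        intro g
        exact Subtype.ext (mem_centralizer_iff.1 hcT g g.2)
      rw [h2, mem_bot] at h3
      exact congrArg Subtype.val h3
    · exfalso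
      apply hnc
      intro a ha b hb'
      have : (⟨a, ha⟩ : T) ∈ center T := by rw [h2]; exact mem_top _
      exact (congrArg Subtype.val (mem_center_iff.1 this ⟨b, hb'⟩)).symm
  -- the subgroup of covered elements
  let K : Subgroup T :=
    { carrier := {k | ∃ c ∈ centralizer (T : Set (G ⧸ N)), (k : G ⧸ N) * c ∈ Γ.map ψ}
      one_mem' := ⟨1, one_mem _, by simp⟩
      mul_mem' := by
        rintro a b ⟨c, hc, hac⟩ ⟨d, hd, hbd⟩
        refine ⟨c * d, mul_mem hc hd, ?_⟩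
        have h1 : c * b = b * c := (mem_centralizer_iff.1 hc b b.2).symm
        have e : ((a * b : T) : G ⧸ N) * (c * d) = (a * c) * (b * d) := by
          rw [Subgroup.coe_mul]
          calc (a : G ⧸ N) * b * (c * d) = a * (b * c) * d := by group
            _ = a * (c * b) * d := by rw [h1]
            _ = (a * c) * (b * d) := by group
        rw [e]
        exact mul_mem hac hbd
      inv_mem' := by
        rintro a ⟨c, hc, hac⟩
        refine ⟨c⁻¹, inv_mem hc, ?_⟩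
        have h1 : a * c = c * a := mem_centralizer_iff.1 hc a a.2
        have h2 := inv_mem hac
        rw [h1, mul_inv_rev] at h2
        exact h2 }
  suffices hK : K = ⊤ by
    intro k hk
    have : (⟨k, hk⟩ : T) ∈ K := by rw [hK]; exact mem_top _
    exact this
  rcases H8.TH.theta T (N₁.map ψ) (A.map ψ) hnc TP PT (by rw [normalizer_eq_top]; exact le_top) hAbc hAbs hinn hnot with
    ⟨D, hDA, ⟨a₀, ha₀, ha₀D⟩, hDD, hx⟩ | ⟨τ, θ, ⟨a₀, ha₀⟩, hθP, hθc, hact⟩
  · -- case 1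
    rw [eq_top_iff, ← gen_odd (T := T) (fun h => hnc (fun a ha b hb' =>
      congrArg Subtype.val (h ⟨a, ha⟩ ⟨b, hb'⟩))), closure_le]
    intro k hk
    obtain ⟨x₀, hx₀P, c, hcP, hcT, hx₀c, hord, hx₀D, hx₀i⟩ := hx k k.2
    have hkodd : Odd (orderOf x₀) := by
      have h1 : orderOf (k : G ⧸ N) = orderOf k := Subgroup.orderOf_coe k
      rw [h1] at hord
      exact Odd.of_dvd_nat hk hord
    refine ⟨c, hcT, ?_⟩
    rw [← hx₀c]
    -- the odd section
    set O : Subgroup G := normalizer (Q : Set G) ⊓ (zpowers x₀).comap ψ with hO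
    have hAO : A ≤ normalizer (O : Set G) := by
      apply le_normalizer_of_conj
      intro a ha y hy
      obtain ⟨h1, h2⟩ := mem_inf.1 hy
      refine mem_inf.2 ⟨mul_mem (mul_mem (hAQ ha) h1) (inv_mem (hAQ ha)), ?_⟩
      obtain ⟨i, hi⟩ := mem_zpowers_iff.1 h2
      show ψ (a * y * a⁻¹) ∈ zpowers x₀
      rw [map_mul, map_mul, map_inv, ← hi]
      have haA : ψ a ∈ A.map ψ := mem_map_of_mem ψ ha
      by_cases haD : ψ a ∈ D
      · have h3 : ψ a * x₀ = x₀ * ψ a := hx₀D _ haD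
        have h4 : ψ a * x₀ ^ i * (ψ a)⁻¹ = x₀ ^ i := by
          have : Commute (ψ a) x₀ := h3
          rw [(this.zpow_right i).eq, mul_inv_cancel_right]
        rw [h4]; exact zpow_mem (mem_zpowers x₀) i
      · have h3 := hx₀i _ haA haD
        have h4 : ψ a * x₀ ^ i * (ψ a)⁻¹ = (x₀⁻¹) ^ i := by rw [← h3, conj_zpow]
        rw [h4]; exact zpow_mem (inv_mem (mem_zpowers x₀)) i
    have hQO : Q ≤ O := by
      intro q hq
      refine mem_inf.2 ⟨le_normalizer hq, ?_⟩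
      show ψ q ∈ zpowers x₀
      rw [(hψN q).2 (mem_inf.1 hq).2]
      exact one_mem _
    have hOo : Odd (Q.relIndex O) := by
      apply odd_rel S hQO
      have h1 : O.map ψ ≤ zpowers x₀ := by
        rw [map_le_iff_le_comap]; exact inf_le_right
      have h2 : Nat.card (O.map ψ) ∣ Nat.card (zpowers x₀) := Subgroup.card_dvd_of_le h1
      rw [Nat.card_zpowers] at h2
      exact hkodd.of_dvd_nat h2
    obtain ⟨g, hg⟩ := QuotientGroup.mk'_surjective N x₀
    obtain ⟨n, hn, u, hu, hgu⟩ := H13.SylowN.frattini_mem S N g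
    have hψu : ψ u = x₀ := by
      rw [← hg, hgu, map_mul, (hψN n).2 hn, one_mul]
    have huO : u ∈ O := mem_inf.2 ⟨hu, by show ψ u ∈ zpowers x₀; rw [hψu]; exact mem_zpowers x₀⟩
    obtain ⟨y, hyQ, hyZ, hyA⟩ := odd_section hs hfree hb hA inf_le_left hAO hOo u huO
    obtain ⟨a, ha, rfl⟩ := ha₀
    have h1 : a * y⁻¹ * a⁻¹ ∈ centralizer (Z1 (S : Subgroup G) : Set G) := by
      have h2 := conj_mem_cj (k := a) (inv_mem hyZ)
      rwa [cj_centralizer, cj_of_mem_normalizer (H52.EGr.S_le_normalizer_Z1 _ (hAS ha))] at h2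
    have h2 : y * (a * y⁻¹ * a⁻¹) ∈ centralizer (Z1 (S : Subgroup G) : Set G) := mul_mem hyZ h1
    have h3 : y * (a * y⁻¹ * a⁻¹) ∈ normalizer (Q : Set G) :=
      mul_mem hyQ (mul_mem (mul_mem (hAQ ha) (inv_mem hyQ)) (inv_mem (hAQ ha)))
    have h4 : ψ (y * (a * y⁻¹ * a⁻¹)) = x₀ * x₀ := by
      have h5 := hyA a ha
      have h6 : ψ ((y⁻¹ * u) * a * (y⁻¹ * u)⁻¹ * a⁻¹) = 1 := (hψN _).2 (mem_inf.1 h5).2
      have h7 := hx₀i _ (mem_map_of_mem ψ ha) ha₀D
      rw [map_mul, map_mul, map_mul, map_inv, map_inv, map_mul, map_inv, hψu] at h6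
      rw [map_mul, map_mul, map_mul, map_inv, map_inv]
      have h8 : x₀ * ψ a * x₀⁻¹ * (ψ a)⁻¹ = x₀ * x₀ := by
        calc x₀ * ψ a * x₀⁻¹ * (ψ a)⁻¹ = x₀ * (ψ a * x₀ * (ψ a)⁻¹)⁻¹ := by group
          _ = x₀ * x₀ := by rw [h7, inv_inv]
      have h9 : (ψ y)⁻¹ * x₀ * ψ a * ((ψ y)⁻¹ * x₀)⁻¹ = ψ a := by
        rw [mul_inv_eq_one] at h6; exact h6
      calc ψ y * (ψ a * (ψ y)⁻¹ * (ψ a)⁻¹) = ψ y * ((ψ y)⁻¹ * x₀ * ψ a * ((ψ y)⁻¹ * x₀)⁻¹) * (ψ y)⁻¹ * (ψ a)⁻¹ := by
            rw [h9]; group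
        _ = x₀ * ψ a * x₀⁻¹ * (ψ a)⁻¹ := by group
        _ = x₀ * x₀ := h8
    apply mem_of_sq_mem hkodd
    rw [← h4]
    refine mem_map_of_mem ψ (mem_inf.2 ⟨mem_inf.2 ⟨h2, h3⟩, hψN₁ _ ?_⟩)
    rw [h4]
    exact mul_mem hx₀P hx₀P
  · -- case 2
    obtain ⟨q, hTq⟩ := H8.TF.tfact hTT
    have hθinj : Function.Injective θ := by
      rw [injective_iff_map_eq_one]
      intro t ht
      obtain ⟨c, -, hcT, htc⟩ := hθc t
      rw [ht] at htc
      have h1 : (t : G ⧸ N) = c⁻¹ := eq_inv_of_mul_eq_one_left htc.symm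
      have h2 := hcenT t t.2 (by rw [h1]; exact inv_mem hcT)
      exact Subtype.ext h2
    set α : ↥A →* ↥(A.map ψ) := ψ.subgroupMap A with hα
    have hact' : ∀ (a : A) (t : T), (QuotientGroup.mk (a : G) : G ⧸ N) * θ t * (QuotientGroup.mk (a : G))⁻¹ =
        θ ((τ.comp α) a * t * ((τ.comp α) a)⁻¹) := fun a t => hact (α a) t
    obtain ⟨L, hLQ, hLZ, hLθ⟩ := ktype hs hb hA inf_le_right hTq (τ.comp α) θ hθinj (by
      intro a ha
      have h1 : α a = 1 := Subtype.ext ((hψN _).2 ha)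
      rw [MonoidHom.comp_apply, h1, map_one]) (by
      obtain ⟨_, ⟨a, ha, rfl⟩⟩ := a₀
      exact ⟨⟨a, ha⟩, ha₀⟩) hact' (by
      intro t
      set D : Subgroup G := (τ.comp α).ker.map A.subtype with hD
      obtain ⟨g, hg1, hg2, hg3⟩ := hlift D ((Subgroup.map_subtype_le _).trans hAS) (θ t) (by
        rintro _ ⟨a, ha, rfl⟩
        have h1 := hact' a t
        have h2 : (τ.comp α) a = 1 := ha
        rw [h2, one_mul, inv_one, mul_one, mul_inv_eq_iff_eq_mul] at h1
        exact h1.symm)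
      exact ⟨g, hg1, fun a ha => hg2 a ⟨a, ha, rfl⟩, hg3⟩)
    rw [eq_top_iff]
    intro t _
    obtain ⟨c, hcP, hcT, htc⟩ := hθc t
    refine ⟨c, hcT, ?_⟩
    rw [← htc]
    obtain ⟨l, hl, hlt⟩ := hLθ t
    refine ⟨l, mem_inf.2 ⟨mem_inf.2 ⟨hLZ hl, hLQ hl⟩, hψN₁ _ ?_⟩, hlt⟩
    have : ψ l = θ t := hlt
    rw [this]; exact hθP t

end H14.GF
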