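import Cfsg.Agent.Lib.H14.GF12
import Cfsg.Agent.Lib.H8.TH2
import Cfsg.Agent.Lib.H52.EG3

/-!
# Glauberman's 2-factorization: the chief factor step
-/

set_option autoImplicit false

universe u

namespace H14.GF

open Subgroup H14.SF Cfsg

variable {G : Type u} [Group G]

/-- Sylow subgroups meet normal subgroups of normal subgroups -/
theorem exists_two_mem [Finite G] (S : Sylow 2 G) {N N₁ : Subgroup G} [N.Normal] [N₁.Normal] {T : Subgroup (G ⧸ N)}
    (TP : T ≤ N₁.map (QuotientGroup.mk' N)) (PT : N₁.map (QuotientGroup.mk' N) ≤ normalizer (T : Set (G ⧸ N)))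
    (heven : ¬ Odd (Nat.card T)) : ∃ s ∈ (S : Subgroup G), QuotientGroup.mk' N s ∈ T ∧ QuotientGroup.mk' N s ≠ 1 := by
  haveI : Fact (Nat.Prime 2) := ⟨Nat.prime_two⟩
  set ψ := QuotientGroup.mk' N with hψ
  have hsurj : Function.Surjective ψ := QuotientGroup.mk'_surjective N
  set P := N₁.map ψ with hP
  haveI hPn : P.Normal := Subgroup.Normal.map inferInstance ψ hsurj
  set Sb := (S : Subgroup G).map ψ with hSb
  have h1 : ¬ 2 ∣ Sb.index := (S.mapSurjective hsurj).not_dvd_index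
  have h2 : Sb.relIndex P ∣ Sb.index :=
    H13.SylowN.index_inf_dvd _ (by rw [normalizer_eq_top]; exact le_top)
  have h3 : Sb.relIndex T ∣ Sb.relIndex P := by
    have h4 : (Sb.subgroupOf P) ≤ normalizer ((T.subgroupOf P : Subgroup P) : Set P) := by
      apply le_normalizer_of_conj
      intro k _ x hx
      have h6 : (k : G ⧸ N) * x * (k : G ⧸ N)⁻¹ ∈ T := nconj (PT k.2) hx
      exact mem_subgroupOf.2 h6
    have h5 := H13.SylowN.index_inf_dvd (Sb.subgroupOf P) h4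
    rw [Subgroup.relIndex_subgroupOf TP] at h5
    exact h5
  have h4 : ¬ 2 ∣ Sb.relIndex T := fun h => h1 ((h.trans h3).trans h2)
  by_contra hcon
  push Not at hcon
  have h5 : Sb ⊓ T = ⊥ := by
    rw [eq_bot_iff]
    rintro _ ⟨⟨s, hs, rfl⟩, hsT⟩
    exact mem_bot.2 (hcon s hs hsT)
  rw [← Subgroup.inf_relIndex_right, h5, Subgroup.relIndex_bot_left] at h4
  exact heven (Nat.not_even_iff_odd.1 fun h => h4 h.two_dvd)

/-- components not centralised by `A` -/
theorem comp_in [Finite G] (hs : SBStmt G) (hfree : ¬ Involves (Equiv.Perm (Fin 4)) G) (S : Sylow 2 G)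
    {H : Subgroup G} (hH : H.Normal) (hHc : centralizer (H : Set G) ≤ H) (hHS : H ≤ S)
    {N N₁ : Subgroup G} [N.Normal] [N₁.Normal] (hHN : H ≤ N) (hNN₁ : N ≤ N₁)
    (hlift : LiftStmt (S : Subgroup G) N) {A : Subgroup G} (hA : A ∈ AA (S : Subgroup G))
    (T : Subgroup (G ⧸ N)) [IsSimpleGroup T] (hTT : IsSuzukiOrPSL2OddPowerThree T)
    (hnc : ¬ (∀ a ∈ T, ∀ b ∈ T, a * b = b * a)) (TP : T ≤ N₁.map (QuotientGroup.mk' N))
    (PT : N₁.map (QuotientGroup.mk' N) ≤ normalizer (T : Set (G ⧸ N))) (heven : ¬ Odd (Nat.card T))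
    (hnot : ¬ A.map (QuotientGroup.mk' N) ≤ centralizer (T : Set (G ⧸ N))) :
    T ≤ (centralizer (Z1 (S : Subgroup G) : Set G) ⊓
        normalizer (((S : Subgroup G) ⊓ N : Subgroup G) : Set G) ⊓ N₁).map (QuotientGroup.mk' N) := by
  classical
  have hcov := comp_cover hs hfree S hH hHc hHS hHN hNN₁ hlift hA T hTT hnc TP PT hnot
  obtain ⟨s, hsS, hsT, hs1⟩ := exists_two_mem S TP PT heven
  set ψ := QuotientGroup.mk' N with hψ
  set Γ := centralizer (Z1 (S : Subgroup G) : Set G) ⊓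
        normalizer (((S : Subgroup G) ⊓ N : Subgroup G) : Set G) ⊓ N₁ with hΓ
  have hb : SD (S : Subgroup G) ((S : Subgroup G) ⊓ N) H := sd_of S.2 hH hHc hHS hHN
  have hSΓ : ∀ γ ∈ Γ.map ψ, ψ s * γ * (ψ s)⁻¹ ∈ Γ.map ψ := by
    rintro _ ⟨g, hg, rfl⟩
    obtain ⟨h12, h3⟩ := mem_inf.1 hg
    obtain ⟨h1, h2⟩ := mem_inf.1 h12
    rw [← map_inv, ← map_mul, ← map_mul]
    refine mem_map_of_mem ψ (mem_inf.2 ⟨mem_inf.2 ⟨?_, ?_⟩, ?_⟩)
    · have h4 := conj_mem_cj (k := s) h1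
      rwa [cj_centralizer, cj_of_mem_normalizer (H52.EGr.S_le_normalizer_Z1 _ hsS)] at h4
    · exact mul_mem (mul_mem (hb.SQ hsS) h2) (inv_mem (hb.SQ hsS))
    · exact (inferInstance : N₁.Normal).conj_mem _ h3 s
  set p : T := ⟨ψ s, hsT⟩ with hp
  have hp1 : p ≠ 1 := fun h => hs1 (congrArg Subtype.val h)
  set W : Subgroup T := closure {w | ∃ k : T, w = k * p * k⁻¹ * p⁻¹} with hW
  have hWΓ : W ≤ (Γ.map ψ).subgroupOf T := by
    rw [hW, closure_le]
    rintro _ ⟨k, rfl⟩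
    obtain ⟨c, hcT, hkc⟩ := hcov k k.2
    show ((k * p * k⁻¹ * p⁻¹ : T) : G ⧸ N) ∈ Γ.map ψ
    have h1 := mul_mem hkc (hSΓ _ (inv_mem hkc))
    have h2 : ψ s * c = c * ψ s := mem_centralizer_iff.1 hcT _ hsT
    have e : (k : G ⧸ N) * c * (ψ s * ((k : G ⧸ N) * c)⁻¹ * (ψ s)⁻¹) = ((k * p * k⁻¹ * p⁻¹ : T) : G ⧸ N) := by
      have h3 : c * ψ s * c⁻¹ = ψ s := by rw [← h2, mul_inv_cancel_right]
      calc (k : G ⧸ N) * c * (ψ s * ((k : G ⧸ N) * c)⁻¹ * (ψ s)⁻¹) = k * (c * ψ s * c⁻¹) * (k : G ⧸ N)⁻¹ * (ψ s)⁻¹ := by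
            group
        _ = k * ψ s * (k : G ⧸ N)⁻¹ * (ψ s)⁻¹ := by rw [h3]
    rwa [e] at h1
  have hWn : W.Normal := by
    constructor
    intro w hw t
    have h1 : W ≤ W.comap (MulAut.conj t).toMonoidHom := by
      conv_lhs => rw [hW]
      rw [closure_le]
      rintro _ ⟨k, rfl⟩
      show t * (k * p * k⁻¹ * p⁻¹) * t⁻¹ ∈ W
      have e : t * (k * p * k⁻¹ * p⁻¹) * t⁻¹ = ((t * k) * p * (t * k)⁻¹ * p⁻¹) * (t * p * t⁻¹ * p⁻¹)⁻¹ := by group
      rw [e]
      exact mul_mem (subset_closure ⟨t * k, rfl⟩) (inv_mem (subset_closure ⟨t, rfl⟩))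
    exact h1 hw
  have hWtop : W = ⊤ := by
    rcases IsSimpleGroup.eq_bot_or_eq_top_of_normal W hWn with h | h
    · exfalso
      have hpc : p ∈ center T := by
        rw [mem_center_iff]
        intro k
        have h1 : k * p * k⁻¹ * p⁻¹ ∈ W := subset_closure ⟨k, rfl⟩
        rw [h, mem_bot] at h1
        calc k * p = k * p * k⁻¹ * p⁻¹ * (p * k) := by group
          _ = p * k := by rw [h1, one_mul]
      rcases IsSimpleGroup.eq_bot_or_eq_top_of_normal (center T) inferInstance with h2 | h2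
      · rw [h2, mem_bot] at hpc
        exact hp1 hpc
      · apply hnc
        intro a ha b hb'
        have : (⟨a, ha⟩ : T) ∈ center T := by rw [h2]; exact mem_top _
        exact (congrArg Subtype.val (mem_center_iff.1 this ⟨b, hb'⟩)).symm
    · exact h
  intro t ht
  have h1 : (⟨t, ht⟩ : T) ∈ W := by rw [hWtop]; exact mem_top _
  exact hWΓ h1

theorem cj_simple {E : Type u} [Group E] (g : E) (T : Subgroup E) [IsSimpleGroup T] : IsSimpleGroup (cj g T) := by
  let e : T ≃* cj g T := T.equivMapOfInjective _ (MulAut.conj g).injective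
  haveI : Nontrivial (cj g T) := e.symm.toEquiv.nontrivial
  exact IsSimpleGroup.isSimpleGroup_of_surjective e.toMonoidHom e.surjective

/-- the step in the normalizer of `S ∩ N` -/
theorem section_step [Finite G] (hs : SBStmt G) (hfree : ¬ Involves (Equiv.Perm (Fin 4)) G)
    (hc : IsCompositionKGroupWith IsSuzukiOrPSL2OddPowerThree G) (S : Sylow 2 G)
    {H : Subgroup G} (hH : H.Normal) (hHc : centralizer (H : Set G) ≤ H) (hHS : H ≤ S)
    {N N₁ : Subgroup G} [N.Normal] [N₁.Normal] (hHN : H ≤ N) (hNN₁ : N < N₁)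
    (hchief : ∀ K : Subgroup G, K.Normal → N ≤ K → K ≤ N₁ → K = N ∨ K = N₁)
    (hn2 : ¬ IsPGroup 2 (N₁.map (QuotientGroup.mk' N)))
    (hlift : LiftStmt (S : Subgroup G) N) {A : Subgroup G} (hA : A ∈ AA (S : Subgroup G)) :
    ∀ u ∈ N₁, u ∈ normalizer (((S : Subgroup G) ⊓ N : Subgroup G) : Set G) →
      ∃ y ∈ normalizer (((S : Subgroup G) ⊓ N : Subgroup G) : Set G), y ∈ centralizer (Z1 (S : Subgroup G) : Set G) ∧
        ∀ a ∈ A, (y⁻¹ * u) * a * (y⁻¹ * u)⁻¹ * a⁻¹ ∈ (S : Subgroup G) ⊓ N := by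
  classical
  have hb : SD (S : Subgroup G) ((S : Subgroup G) ⊓ N) H := sd_of S.2 hH hHc hHS hHN
  set ψ := QuotientGroup.mk' N with hψ
  have hsurj : Function.Surjective ψ := QuotientGroup.mk'_surjective N
  have hψN : ∀ g : G, ψ g = 1 ↔ g ∈ N := fun g => QuotientGroup.eq_one_iff g
  set Q := (S : Subgroup G) ⊓ N with hQ
  have hAS := hA.1
  have hAQ : A ≤ normalizer (Q : Set G) := hAS.trans hb.SQ
  -- odd sections
  have hoddsec : ∀ K : Subgroup G, K.Normal → N ≤ K → Odd (Nat.card (K.map ψ)) → ∀ u ∈ K, u ∈ normalizer (Q : Set G) →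
      ∃ y ∈ normalizer (Q : Set G), y ∈ centralizer (Z1 (S : Subgroup G) : Set G) ∧
        ∀ a ∈ A, (y⁻¹ * u) * a * (y⁻¹ * u)⁻¹ * a⁻¹ ∈ Q := by
    intro K hK hNK hodd u hu huQ
    have hAO : A ≤ normalizer ((K ⊓ normalizer (Q : Set G) : Subgroup G) : Set G) := by
      apply le_normalizer_of_conj
      intro a ha y hy
      obtain ⟨h1, h2⟩ := mem_inf.1 hy
      exact mem_inf.2 ⟨hK.conj_mem _ h1 a, mul_mem (mul_mem (hAQ ha) h2) (inv_mem (hAQ ha))⟩
    have hQO : Q ≤ K ⊓ normalizer (Q : Set G) := le_inf ((inf_le_right : Q ≤ N).trans hNK) le_normalizer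
    have hO : Odd (Q.relIndex (K ⊓ normalizer (Q : Set G))) := by
      apply odd_rel S hQO
      have h1 : (K ⊓ normalizer (Q : Set G)).map ψ ≤ K.map ψ := map_mono inf_le_left
      exact hodd.of_dvd_nat (Subgroup.card_dvd_of_le h1)
    exact odd_section hs hfree hb hA inf_le_right hAO hO u (mem_inf.2 ⟨hu, huQ⟩)
  by_cases hodd : Odd (Nat.card (N₁.map ψ))
  · exact hoddsec N₁ inferInstance hNN₁.le hodd
  · set P := N₁.map ψ with hP
    haveI hPn : P.Normal := Subgroup.Normal.map inferInstance ψ hsurj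
    have hcE : IsCompositionKGroupWith IsSuzukiOrPSL2OddPowerThree (G ⧸ N) :=
      H52.EGr.comp_of_surj H52.EGr.inv_TT ψ hsurj hc
    have hmin : ∀ K : Subgroup (G ⧸ N), K.Normal → K ≤ P → K = ⊥ ∨ K = P := by
      intro K hK hKP
      have h1 : (K.comap ψ).Normal := hK.comap ψ
      have h2 : N ≤ K.comap ψ := by
        intro n hn
        show ψ n ∈ K
        rw [(hψN n).2 hn]; exact one_mem _
      have h3 : K.comap ψ ≤ N₁ := by
        intro g hg
        obtain ⟨n, hn, hng⟩ := hKP hg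
        have h1 : ψ (n⁻¹ * g) = 1 := by rw [map_mul, map_inv, hng]; group
        have h2 := mul_mem hn (hNN₁.le ((hψN _).1 h1))
        have e : n * (n⁻¹ * g) = g := by group
        rwa [e] at h2
      have h4 : (K.comap ψ).map ψ = K := Subgroup.map_comap_eq_self_of_surjective hsurj K
      rcases hchief _ h1 h2 h3 with h | h
      · left
        rw [← h4, h, eq_bot_iff]
        rintro _ ⟨n, hn, rfl⟩
        exact mem_bot.2 ((hψN n).2 hn)
      · right
        rw [← h4, h]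
    have hPne : P ≠ ⊥ := by
      intro h
      apply hNN₁.not_ge
      intro g hg
      have : ψ g ∈ P := mem_map_of_mem ψ hg
      rw [h, mem_bot] at this
      exact (hψN g).1 this
    obtain ⟨T, hTP, hPT, hTs, hTT, hnc, -, hgen⟩ := H8.TH.min_simple hcE P hmin hPne hn2 hodd
    haveI := hTs
    have heven : ¬ Odd (Nat.card T) := fun h => hodd (odd_gen hTP hPT hgen h)
    set Γ := centralizer (Z1 (S : Subgroup G) : Set G) ⊓ normalizer (Q : Set G) ⊓ N₁ with hΓ
    have hcjP : ∀ g, cj g T ≤ P := by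
      intro g
      have := cj_mono (k := g) hTP
      rwa [cj_normal (k := g) (H := P)] at this
    have hPcj : ∀ g, P ≤ normalizer (cj g T : Set (G ⧸ N)) := by
      intro g
      have := cj_mono (k := g) hPT
      rwa [cj_normal (k := g) (H := P), cj_normalizer] at this
    have hcjin : ∀ g, ¬ A.map ψ ≤ centralizer (cj g T : Set (G ⧸ N)) → cj g T ≤ Γ.map ψ := by
      intro g hg
      haveI := cj_simple g T
      have e : T ≃* cj g T := T.equivMapOfInjective _ (MulAut.conj g).injective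
      refine comp_in hs hfree S hH hHc hHS hHN hNN₁.le hlift hA (cj g T) (H8.TH.tt_equiv e.symm hTT) ?_ (hcjP g) (hPcj g)
        (by rw [card_cj]; exact heven) hg
      intro h
      apply hnc
      intro a ha b hb'
      have h1 := h _ (conj_mem_cj (k := g) ha) _ (conj_mem_cj (k := g) hb')
      have h2 : g * (a * b) * g⁻¹ = g * (b * a) * g⁻¹ := by
        calc g * (a * b) * g⁻¹ = g * a * g⁻¹ * (g * b * g⁻¹) := by group
          _ = g * b * g⁻¹ * (g * a * g⁻¹) := h1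
          _ = g * (b * a) * g⁻¹ := by group
      exact mul_left_cancel (mul_right_cancel h2)
    set R : Subgroup (G ⧸ N) := sSup {U | ∃ g, U = cj g T ∧ ¬ A.map ψ ≤ centralizer (U : Set (G ⧸ N))} with hR
    set C' : Subgroup (G ⧸ N) := sSup {U | ∃ g, U = cj g T ∧ A.map ψ ≤ centralizer (U : Set (G ⧸ N))} with hC'
    have hRΓ : R ≤ Γ.map ψ := by
      apply sSup_le
      rintro _ ⟨g, rfl, hg⟩
      exact hcjin g hg
    have hC'P : C' ≤ P := by
      apply sSup_le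
      rintro _ ⟨g, rfl, hg⟩
      exact hcjP g
    have hC'A : C' ≤ centralizer (A.map ψ : Set (G ⧸ N)) := by
      apply sSup_le
      rintro _ ⟨g, rfl, hg⟩
      exact le_cent_comm hg
    have hPR : P ≤ normalizer (R : Set (G ⧸ N)) := by
      apply le_normalizer_of_conj
      intro p hp
      have h1 : R ≤ cj p⁻¹ R := by
        apply sSup_le
        rintro _ ⟨g, rfl, hg⟩
        intro x hx
        rw [mem_cj, inv_inv]
        exact (le_sSup (s := {U | ∃ g, U = cj g T ∧ ¬ A.map ψ ≤ centralizer (U : Set (G ⧸ N))}) ⟨g, rfl, hg⟩)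
          (nconj (hPcj g hp) hx)
      intro x hx
      have := mem_cj.1 (h1 hx)
      rwa [inv_inv] at this
    have hPRC : P ≤ R ⊔ C' := by
      apply hgen
      intro g t ht
      by_cases hg : A.map ψ ≤ centralizer (cj g T : Set (G ⧸ N))
      · exact (le_sup_right : C' ≤ _) ((le_sSup (s := {U | ∃ g, U = cj g T ∧ A.map ψ ≤ centralizer (U : Set (G ⧸ N))})
          ⟨g, rfl, hg⟩) (conj_mem_cj ht))
      · exact (le_sup_left : R ≤ _) ((le_sSup (s := {U | ∃ g, U = cj g T ∧ ¬ A.map ψ ≤ centralizer (U : Set (G ⧸ N))})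
          ⟨g, rfl, hg⟩) (conj_mem_cj ht))
    intro u hu huQ
    obtain ⟨ρ, hρ, c, hcC, huρ⟩ := mem_sup_norm (hC'P.trans hPR) (hPRC (mem_map_of_mem ψ hu))
    obtain ⟨y₁, hy₁, rfl⟩ := hRΓ hρ
    obtain ⟨h12, hy₁N⟩ := mem_inf.1 hy₁
    obtain ⟨hy₁Z, hy₁Q⟩ := mem_inf.1 h12
    obtain ⟨g, hgQ, hgA, hgc⟩ := hlift A hAS c (fun a ha => cent_comm (hC'A hcC) (mem_map_of_mem ψ ha))
    have hψg : ψ g = c := hgc
    have hoN : y₁⁻¹ * u * g⁻¹ ∈ N := by
      rw [← hψN, map_mul, map_mul, map_inv, map_inv, hψg, huρ]; group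
    have hoQ : y₁⁻¹ * u * g⁻¹ ∈ normalizer (Q : Set G) := mul_mem (mul_mem (inv_mem hy₁Q) huQ) (inv_mem hgQ)
    obtain ⟨y₂, hy₂Q, hy₂Z, hy₂A⟩ := hoddsec N inferInstance le_rfl (by
      have h1 : N.map ψ = ⊥ := by
        rw [eq_bot_iff]
        rintro _ ⟨n, hn, rfl⟩
        exact mem_bot.2 ((hψN n).2 hn)
      rw [h1, Subgroup.card_bot]; exact odd_one) _ hoN hoQ
    refine ⟨y₁ * y₂, mul_mem hy₁Q hy₂Q, mul_mem hy₁Z hy₂Z, ?_⟩
    have h1 : y₂⁻¹ * (y₁⁻¹ * u * g⁻¹) ∈ secC Q A := ⟨mul_mem (inv_mem hy₂Q) hoQ, hy₂A⟩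
    have h2 : g ∈ secC Q A := ⟨hgQ, hgA⟩
    have h3 := mul_mem h1 h2
    have e : y₂⁻¹ * (y₁⁻¹ * u * g⁻¹) * g = (y₁ * y₂)⁻¹ * u := by group
    rw [e] at h3
    exact h3.2

end H14.GF
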