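import Cfsg.Agent.Lib.H14.GF13
import Cfsg.Agent.Lib.H8.CI1
import Cfsg.Agent.Lib.H52.SB1

/-!
# Glauberman's 2-factorization: `[J_e(S)^G, Ω₁(Z(Ĵ(S)))] = 1`
-/

set_option autoImplicit false

universe u

namespace H14.GF

open Subgroup H14.SF Cfsg

variable {G : Type u} [Group G]

/-- conjugates of maximal elementary abelian subgroups -/
theorem cj_mem_AA [Finite G] {S A : Subgroup G} (hA : A ∈ AA S) {c : G} (h : cj c A ≤ S) : cj c A ∈ AA S := by
  refine ⟨h, ?_, ?_, ?_⟩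
  · intro a ha b hb
    have h1 := hA.2.1 _ (mem_cj.1 ha) _ (mem_cj.1 hb)
    calc a * b = c * ((c⁻¹ * a * c) * (c⁻¹ * b * c)) * c⁻¹ := by group
      _ = c * ((c⁻¹ * b * c) * (c⁻¹ * a * c)) * c⁻¹ := by rw [h1]
      _ = b * a := by group
  · intro a ha
    have h1 := hA.2.2.1 _ (mem_cj.1 ha)
    calc a * a = c * ((c⁻¹ * a * c) * (c⁻¹ * a * c)) * c⁻¹ := by group
      _ = 1 := by rw [h1]; group
  · intro B hB h1 h2
    rw [card_cj]
    exact hA.2.2.2 B hB h1 h2

/-- (3') -/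
theorem main3 [Finite G] (hchar : centralizer (pCore 2 G : Set G) ≤ pCore 2 G)
    (hfree : ¬ Involves (Equiv.Perm (Fin 4)) G) (hc : IsCompositionKGroupWith IsSuzukiOrPSL2OddPowerThree G)
    (S : Sylow 2 G) (g : G) :
    ∀ j ∈ JE (S : Subgroup G), g * j * g⁻¹ ∈ centralizer (Z1 (S : Subgroup G) : Set G) := by
  classical
  haveI : Fact (Nat.Prime 2) := ⟨Nat.prime_two⟩
  have hs : SBStmt G := H52.SB.sb G
  have hHS : pCore 2 G ≤ (S : Subgroup G) := H13.Cores.pCore_le_sylow S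
  refine H8.CI.chief_induction S ?_ g
  intro N N₁ hN hN₁ hHN hlt hchief hJ
  set ψ := QuotientGroup.mk' N with hψ
  have hψN : ∀ g : G, ψ g = 1 ↔ g ∈ N := fun g => QuotientGroup.eq_one_iff g
  by_cases h2 : IsPGroup 2 (N₁.map ψ)
  · obtain ⟨k, hk⟩ := IsPGroup.iff_card.1 h2
    have h3 : N.relIndex N₁ = 2 ^ k := by
      rw [← hk, ← Subgroup.relIndex_ker, QuotientGroup.ker_mk']
    exact H8.CI.two_step S hlt.le hJ h3
  · apply H8.CI.lift_step S hlt.le hJ
    intro u hu huQ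
    have hkey : JE (S : Subgroup G) ≤ cj u⁻¹ (centralizer (Z1 (S : Subgroup G) : Set G)) := by
      apply sSup_le
      intro A hA
      obtain ⟨y, hyQ, hyZ, hyA⟩ := section_step hs hfree hc S inferInstance hchar hHS hHN hlt hchief h2
        (fun D hD e he => H8.CI.lift_commuting S hD he) hA u hu huQ
      set c := y⁻¹ * u with hcd
      have h4 : cj c A ≤ (S : Subgroup G) := by
        rw [cj_le_iff]
        intro a ha
        have e : c * a * c⁻¹ = (c * a * c⁻¹ * a⁻¹) * a := by group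
        rw [e]
        exact mul_mem (mem_inf.1 (hyA a ha)).1 (hA.1 ha)
      have h5 : cj c A ≤ centralizer (Z1 (S : Subgroup G) : Set G) :=
        (le_sSup_AA (cj_mem_AA hA h4)).trans (H8.CI.JE_le_C _)
      intro a ha
      rw [mem_cj, inv_inv]
      have h6 := h5 (conj_mem_cj (k := c) ha)
      have e : u * a * u⁻¹ = y * (c * a * c⁻¹) * y⁻¹ := by rw [hcd]; group
      rw [e]
      exact mul_mem (mul_mem hyZ h6) (inv_mem hyZ)
    intro j hj
    have := mem_cj.1 (hkey hj)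
    rwa [inv_inv] at this

end H14.GF
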