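import Cfsg.Agent.Lib.H14.GF6
import Cfsg.Agent.Lib.H52.EG2

/-!
# Glauberman's 2-factorization: from covering data to a configuration `KT`
-/

set_option autoImplicit false

universe u

namespace H14.GF

open Subgroup H14.SF Cfsg

variable {G : Type u} [Group G]

theorem mem_sup_norm {L A : Subgroup G} (h : A ≤ normalizer (L : Set G)) {k : G} (hk : k ∈ L ⊔ A) :
    ∃ l ∈ L, ∃ a ∈ A, k = l * a := by
  have h1 := Subgroup.coe_mul_of_right_le_normalizer_left L A h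
  have h2 : k ∈ (↑(L ⊔ A) : Set G) := hk
  rw [h1] at h2
  obtain ⟨l, hl, a, ha, rfl⟩ := Set.mem_mul.1 h2
  exact ⟨l, hl, a, ha, rfl⟩

/-- squares of odd order elements -/
theorem mem_of_sq_mem {N : Subgroup G} {x : G} (hx : Odd (orderOf x)) (h : x * x ∈ N) : x ∈ N := by
  obtain ⟨m, hm⟩ := hx
  have e2 : (x * x) ^ (m + 1) = x := by
    rw [← sq, ← pow_mul]
    have : 2 * (m + 1) = orderOf x + 1 := by omega
    rw [this, pow_succ, pow_orderOf_eq_one, one_mul]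
  rw [← e2]
  exact N.pow_mem h _

/-- the section bound for `v`, `x` -/
def SB (v x : G) (n : ℕ) : Prop :=
  ∀ X₁ X₂ : Subgroup G, IsPGroup 2 X₁ → X₂ ≤ X₁ → v ∈ normalizer (X₁ : Set G) → v ∈ normalizer (X₂ : Set G) →
    x ∈ normalizer (X₁ : Set G) → x ∈ normalizer (X₂ : Set G) → (∀ a ∈ X₁, a * a ∈ X₂) →
    (∃ w ∈ X₁, x * w * x⁻¹ * w⁻¹ ∉ X₂) →
    (∀ D ≤ X₁, (∀ w ∈ X₁, v * w * v⁻¹ * w⁻¹ ∈ D) → n ≤ X₂.relIndex D) ∧
    (∀ C ≤ X₁, (∀ c ∈ C, v * c * v⁻¹ * c⁻¹ ∈ X₂) → n ≤ C.relIndex X₁)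

/-- covering data -/
structure CT (S A Q D L H : Subgroup G) : Prop where
  pS : IsPGroup 2 S
  hA : A ∈ AA S
  QS : Q ≤ S
  SQ : S ≤ normalizer (Q : Set G)
  HQ : H ≤ Q
  Hn : H.Normal
  Hc : centralizer (H : Set G) ≤ H
  DA : D ≤ A
  AQ : A ⊓ Q ≤ D
  hne : ∃ a ∈ A, a ∉ D
  LQ : L ≤ normalizer (Q : Set G)
  AL : A ≤ normalizer (L : Set G)
  odd : ∀ Y : Subgroup G, (∀ x ∈ L, Odd (orderOf x) → x ∈ Y) → L ≤ Y
  LD : ∀ l ∈ L, ∀ d ∈ D, l * d * l⁻¹ * d⁻¹ ∈ Q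
  hV : ∀ v ∈ A, v ∉ D → ∃ x ∈ L, Odd (orderOf x) ∧ v * x * v⁻¹ = x⁻¹ ∧ (∀ a ∈ A, a ∉ D → a * x ≠ x * a) ∧
    (∀ N ≤ L ⊔ A, L ⊔ A ≤ normalizer (N : Set G) → x ∈ N → L ≤ N) ∧ SB v x (D.relIndex A ^ 2)

namespace CT

variable {S A Q D L H : Subgroup G}

theorem kt [Finite G] (h : CT S A Q D L H) : ∃ X : Subgroup G, KT S A (L ⊔ A) L D X H (D.relIndex A) := by
  have hAc := h.hA.2.1
  have hAS := h.hA.1
  have hDS := h.DA.trans hAS
  set K := L ⊔ A with hK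
  have hAK : A ≤ K := le_sup_right
  have hLK : L ≤ K := le_sup_left
  have hKL : K ≤ normalizer (L : Set G) := sup_le le_normalizer h.AL
  set QD := Q ⊔ D with hQD
  have hDQ : D ≤ normalizer (Q : Set G) := hDS.trans h.SQ
  have hQDS : QD ≤ S := sup_le h.QS hDS
  have hKQD : K ≤ normalizer (QD : Set G) := by
    refine sup_le ?_ ?_
    · apply le_normalizer_of_conj
      intro l hl
      have h1 : QD ≤ cj l⁻¹ QD := by
        refine sup_le ?_ ?_
        · intro q hq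
          rw [mem_cj, inv_inv]
          exact (le_sup_left : Q ≤ QD) (nconj (h.LQ hl) hq)
        · intro d hd
          rw [mem_cj, inv_inv]
          have e : l * d * l⁻¹ = (l * d * l⁻¹ * d⁻¹) * d := by group
          rw [e]
          exact mul_mem ((le_sup_left : Q ≤ QD) (h.LD l hl d hd)) ((le_sup_right : D ≤ QD) hd)
      intro x hx
      have := mem_cj.1 (h1 hx)
      rwa [inv_inv] at this
    · apply le_normalizer_of_conj
      intro l hl
      have h1 : QD ≤ cj l⁻¹ QD := by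
        refine sup_le ?_ ?_
        · intro q hq
          rw [mem_cj, inv_inv]
          exact (le_sup_left : Q ≤ QD) (nconj (h.SQ (hAS hl)) hq)
        · intro d hd
          rw [mem_cj, inv_inv, hAc l hl d (h.DA hd)]
          have e : d * l * l⁻¹ = d := by group
          rw [e]
          exact (le_sup_right : D ≤ QD) hd
      intro x hx
      have := mem_cj.1 (h1 hx)
      rwa [inv_inv] at this
  set X : Subgroup G := closure {g | ∃ k ∈ K, ∃ d ∈ D, g = k * d * k⁻¹} with hX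
  have hXQD : X ≤ QD := by
    rw [hX, closure_le]
    rintro _ ⟨k, hk, d, hd, rfl⟩
    exact nconj (hKQD hk) ((le_sup_right : D ≤ QD) hd)
  have hXS : X ≤ S := hXQD.trans hQDS
  have hX2 : IsPGroup 2 X := h.pS.to_le hXS
  have hDX : D ≤ X := fun d hd => subset_closure ⟨1, one_mem _, d, hd, by simp⟩
  have hKX : K ≤ normalizer (X : Set G) := by
    apply le_normalizer_of_conj
    intro l hl
    have h1 : X ≤ cj l⁻¹ X := by
      conv_lhs => rw [hX]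
      rw [closure_le]
      rintro _ ⟨k, hk, d, hd, rfl⟩
      show k * d * k⁻¹ ∈ cj l⁻¹ X
      rw [mem_cj, inv_inv]
      refine subset_closure ⟨l * k, mul_mem hl hk, d, hd, ?_⟩
      group
    intro x hx
    have := mem_cj.1 (h1 hx)
    rwa [inv_inv] at this
  have hAX : A ⊓ X ≤ D := by
    intro y hy
    obtain ⟨q, hq, d, hd, rfl⟩ := mem_sup_norm hDQ (hXQD (mem_inf.1 hy).2)
    have h1 : q ∈ A := by
      have := mul_mem (mem_inf.1 hy).1 (inv_mem (h.DA hd))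
      have e : q * d * d⁻¹ = q := by group
      rwa [e] at this
    exact mul_mem (h.AQ (mem_inf.2 ⟨h1, hq⟩)) hd
  have hnonc : ∀ N M : Subgroup G, N ≤ M → K ≤ normalizer (N : Set G) → K ≤ normalizer (M : Set G) →
      (∃ l ∈ L, ∃ m ∈ M, l * m * l⁻¹ * m⁻¹ ∉ N) → ∀ x ∈ L, (∀ N ≤ K, K ≤ normalizer (N : Set G) → x ∈ N → L ≤ N) →
      ∃ w ∈ M, x * w * x⁻¹ * w⁻¹ ∉ N := by
    intro N M _ hN hM hnc x hx hall
    by_contra hcon
    push Not at hcon
    set N' : Subgroup G := K ⊓ secC N M with hN'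
    have hKN' : K ≤ normalizer (N' : Set G) := by
      apply le_normalizer_of_conj
      intro k hk y hy
      exact mem_inf.2 ⟨mul_mem (mul_mem hk (mem_inf.1 hy).1) (inv_mem hk),
        secC_conj (hN hk) (hM hk) (mem_inf.1 hy).2⟩
    have h1 := hall N' inf_le_left hKN' (mem_inf.2 ⟨hLK hx, hN (hLK hx), hcon⟩)
    obtain ⟨l, hl, m, hm, hne⟩ := hnc
    exact hne ((mem_inf.1 (h1 hl)).2.2 m hm)
  obtain ⟨v₀, hv₀, hv₀D⟩ := h.hne
  refine ⟨X, h.pS, h.hA, hAK, hLK, hKL, fun k hk => mem_sup_norm h.AL hk, h.odd, hXS, h.DA, hDX, hAX, hKX, ?_, rfl,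
    ?_, ?_, ?_, ?_, h.HQ.trans h.QS, ?_, ?_, ?_, ?_⟩
  · intro Y hDY hY
    rw [hX, closure_le]
    rintro _ ⟨k, hk, d, hd, rfl⟩
    exact hY k hk d (hDY hd)
  · have h1 : D.relIndex A ≠ 1 := by
      rw [Ne, Subgroup.relIndex_eq_one]
      exact fun hh => hv₀D (hh hv₀)
    have := rel_pos (G := G) D A
    omega
  · intro N M hNM hMX hKN hKM hc hs hnc C hCM hCA
    obtain ⟨x, hxL, hxo, hvx, -, hall, hSB⟩ := h.hV v₀ hv₀ hv₀D
    have h1 := hnonc N M hNM hKN hKM hnc x hxL hall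
    refine (hSB M N (hX2.to_le hMX) hNM (hKM (hAK hv₀)) (hKN (hAK hv₀)) (hKM (hLK hxL)) (hKN (hLK hxL))
      (fun a ha => by rw [hs a ha]; exact one_mem _) h1).2 C hCM ?_
    intro c hcC
    exact comm_symm (hCA c hcC v₀ hv₀)
  · intro V hVA hVD
    obtain ⟨v, hv, hvD⟩ : ∃ v ∈ V, v ∉ D := by
      by_contra hn
      push Not at hn
      exact hVD hn
    obtain ⟨x, hxL, hxo, hvx, hnc, hall, hSB⟩ := h.hV v (hVA hv) hvD
    refine ⟨v, hv, hvD, x, hLK hxL, hxo, hvx, hnc, hall, ?_⟩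
    intro X₁ X₂ D' hX₁ hX₂ hD' hv1 hv2 hx1 hx2 hsq hnt hD
    have h1 := (hSB X₁ X₂ (hX2.to_le hX₁) hX₂ hv1 hv2 hx1 hx2 hsq hnt).1 D' hD' hD
    refine le_trans (Nat.pow_le_pow_left ?_ 2) h1
    rw [Subgroup.inf_relIndex_right]
    exact rel_mono D hVA
  · intro N hNK hKN z hz hzD hzN
    obtain ⟨x, hxL, hxo, hvx, hnc, hall, hSB⟩ := h.hV z hz hzD
    apply hall N hNK hKN
    apply mem_of_sq_mem hxo
    have h1 : z * (x * z⁻¹ * x⁻¹) ∈ N := mul_mem hzN (nconj (hKN (hLK hxL)) (inv_mem hzN))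
    have e : z * (x * z⁻¹ * x⁻¹) = (x * x)⁻¹ := by
      calc z * (x * z⁻¹ * x⁻¹) = (z * x * z⁻¹) * x⁻¹ := by group
        _ = x⁻¹ * x⁻¹ := by rw [hvx]
        _ = (x * x)⁻¹ := by rw [mul_inv_rev]
    rw [e] at h1
    exact (inv_mem_iff).1 h1
  · have := h.Hn
    rw [normalizer_eq_top]; exact le_top
  · have := h.Hn
    rw [normalizer_eq_top]; exact le_top
  · exact fun y hy => h.AQ (mem_inf.2 ⟨(mem_inf.1 hy).1, h.HQ (mem_inf.1 hy).2⟩)
  · intro x hx ho hxH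
    have h1 : x ∈ H := h.Hc (mem_cent hxH)
    obtain ⟨j, hj⟩ := h.pS ⟨x, h.QS (h.HQ h1)⟩
    have h5 : x ^ 2 ^ j = 1 := by
      have := congrArg Subtype.val hj
      simpa using this
    have h6 : orderOf x ∣ 2 ^ j := orderOf_dvd_of_pow_eq_one h5
    have h7 : Nat.Coprime (orderOf x) (2 ^ j) := Nat.Coprime.pow_right _ (Nat.coprime_two_right.2 ho)
    exact orderOf_eq_one_iff.1 (Nat.Coprime.eq_one_of_dvd h7 h6)

/-- the conclusion -/
theorem main [Finite G] (h : CT S A Q D L H) : L ≤ centralizer (Z1 S : Set G) := by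
  obtain ⟨X, hX⟩ := h.kt
  exact hX.main (fun hh => H52.EGr.le_JH hX.XS hh) (H52.EGr.Z1_le_AA h.hA) (H52.EGr.S_le_normalizer_Z1 S)

end CT

end H14.GF
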