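import Cfsg.Agent.Lib.H14.GF7

/-!
# Glauberman's 2-factorization: minimal coverings
-/

set_option autoImplicit false

universe u

namespace H14.GF

open Subgroup H14.SF Cfsg

variable {G : Type u} [Group G]

/-- basic data -/
structure BD (S A Q D H : Subgroup G) : Prop where
  pS : IsPGroup 2 S
  hA : A ∈ AA S
  QS : Q ≤ S
  SQ : S ≤ normalizer (Q : Set G)
  HQ : H ≤ Q
  Hn : H.Normal
  Hc : centralizer (H : Set G) ≤ H
  DA : D ≤ A
  AQ : A ⊓ Q ≤ D
  hne : ∃ a ∈ A, a ∉ D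

/-- good subgroups -/
structure Good (A Q D L : Subgroup G) : Prop where
  LQ : L ≤ normalizer (Q : Set G)
  AL : A ≤ normalizer (L : Set G)
  LD : ∀ l ∈ L, ∀ d ∈ D, l * d * l⁻¹ * d⁻¹ ∈ Q

theorem Good.odd [Finite G] {A Q D L : Subgroup G} (h : Good A Q D L) :
    Good A Q D (closure {x | x ∈ L ∧ Odd (orderOf x)}) := by
  have hle : closure {x | x ∈ L ∧ Odd (orderOf x)} ≤ L := by
    rw [closure_le]; exact fun x hx => hx.1
  refine ⟨hle.trans h.LQ, ?_, fun l hl d hd => h.LD l (hle hl) d hd⟩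
  apply le_normalizer_of_conj
  intro a ha
  have h1 : closure {x | x ∈ L ∧ Odd (orderOf x)} ≤ cj a⁻¹ (closure {x | x ∈ L ∧ Odd (orderOf x)}) := by
    rw [closure_le]
    rintro x ⟨hx, ho⟩
    show x ∈ cj a⁻¹ _
    rw [mem_cj, inv_inv]
    refine subset_closure ⟨nconj (h.AL ha) hx, ?_⟩
    have : orderOf (a * x * a⁻¹) = orderOf x := by
      have := orderOf_injective (MulAut.conj a).toMonoidHom (MulAut.conj a).injective x
      simpa using this
    rwa [this]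
  intro x hx
  have := mem_cj.1 (h1 hx)
  rwa [inv_inv] at this

/-- minimal coverings lie in the centraliser of `Z1` -/
theorem cover_main [Finite G] {S A Q D H : Subgroup G} (hb : BD S A Q D H) (P : Subgroup G → Prop)
    (h0 : ∃ L₀, Good A Q D L₀ ∧ P L₀)
    (hodd : ∀ L, Good A Q D L → P L → P (closure {x | x ∈ L ∧ Odd (orderOf x)}))
    (hV : ∀ L, Good A Q D L → P L → ∀ v ∈ A, v ∉ D → ∃ x ∈ L, Odd (orderOf x) ∧ v * x * v⁻¹ = x⁻¹ ∧
      (∀ a ∈ A, a ∉ D → a * x ≠ x * a) ∧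
      (∀ N ≤ L, A ≤ normalizer (N : Set G) → L ≤ normalizer (N : Set G) → x ∈ N → P N) ∧
      SB v x (D.relIndex A ^ 2)) :
    ∃ L, Good A Q D L ∧ P L ∧ L ≤ centralizer (Z1 S : Set G) := by
  obtain ⟨L, ⟨hL, hPL⟩, hmin⟩ : ∃ L : Subgroup G, Minimal (fun L => Good A Q D L ∧ P L) L :=
    Set.Finite.exists_minimal (Set.toFinite {L : Subgroup G | Good A Q D L ∧ P L}) h0
  refine ⟨L, hL, hPL, ?_⟩
  have hct : CT S A Q D L H := by
    refine ⟨hb.pS, hb.hA, hb.QS, hb.SQ, hb.HQ, hb.Hn, hb.Hc, hb.DA, hb.AQ, hb.hne, hL.LQ, hL.AL, ?_, hL.LD, ?_⟩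
    · intro Y hY
      have h1 : closure {x | x ∈ L ∧ Odd (orderOf x)} ≤ L := by
        rw [closure_le]; exact fun x hx => hx.1
      refine (hmin ⟨hL.odd, hodd L hL hPL⟩ h1).trans ?_
      rw [closure_le]
      exact fun x hx => hY x hx.1 hx.2
    · intro v hv hvD
      obtain ⟨x, hxL, hxo, hvx, hnc, hN, hSB⟩ := hV L hL hPL v hv hvD
      refine ⟨x, hxL, hxo, hvx, hnc, ?_, hSB⟩
      intro N hNK hKN hxN
      have hAN : A ≤ normalizer ((N ⊓ L : Subgroup G) : Set G) := by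
        apply le_normalizer_of_conj
        intro a ha y hy
        exact mem_inf.2 ⟨nconj (hKN ((le_sup_right : A ≤ L ⊔ A) ha)) (mem_inf.1 hy).1,
          nconj (hL.AL ha) (mem_inf.1 hy).2⟩
      have hLN : L ≤ normalizer ((N ⊓ L : Subgroup G) : Set G) := by
        apply le_normalizer_of_conj
        intro a ha y hy
        exact mem_inf.2 ⟨nconj (hKN ((le_sup_left : L ≤ L ⊔ A) ha)) (mem_inf.1 hy).1,
          mul_mem (mul_mem ha (mem_inf.1 hy).2) (inv_mem ha)⟩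
      have hg : Good A Q D (N ⊓ L) :=
        ⟨inf_le_right.trans hL.LQ, hAN, fun l hl d hd => hL.LD l (mem_inf.1 hl).2 d hd⟩
      have h1 := hmin ⟨hg, hN (N ⊓ L) inf_le_right hAN hLN (mem_inf.2 ⟨hxN, hxL⟩)⟩ inf_le_right
      exact h1.trans inf_le_left
  exact hct.main

/-- odd parts -/
theorem exists_odd_part [Finite G] (g : G) {n : ℕ} (hn : Odd n) :
    ∃ c : ℕ, Odd (orderOf (g ^ c)) ∧ ∀ Q : Subgroup G, g ^ n ∈ Q → g⁻¹ * g ^ c ∈ Q := by
  obtain ⟨k, m, hm, hgm⟩ := Nat.exists_eq_pow_mul_and_not_dvd (orderOf_pos g).ne' 2 (by norm_num)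
  have hmo : Odd m := by
    rw [← Nat.not_even_iff_odd]
    exact fun h => hm h.two_dvd
  have hcop : Nat.Coprime (2 ^ k) n := Nat.Coprime.pow_left _ (Nat.coprime_two_left.2 hn)
  obtain ⟨c, hc1, hc2⟩ := Nat.chineseRemainder hcop 0 1
  have hn0 : 0 < n := hn.pos
  have hd1 : 2 ^ k ∣ c := (Nat.modEq_zero_iff_dvd).1 hc1
  refine ⟨c, ?_, ?_⟩
  · have h1 : (g ^ c) ^ m = 1 := by
      obtain ⟨t, ht⟩ := hd1
      rw [← pow_mul, ht]
      have : 2 ^ k * t * m = orderOf g * t := by rw [hgm]; ring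
      rw [this, pow_mul, pow_orderOf_eq_one, one_pow]
    exact hmo.of_dvd_nat (orderOf_dvd_of_pow_eq_one h1)
  · intro Q hQ
    have h1 : (n : ℤ) ∣ (c : ℤ) - 1 := by
      have h3 := (Nat.modEq_iff_dvd).1 hc2.symm
      simpa using h3
    obtain ⟨t, ht⟩ := h1
    have e : g⁻¹ * g ^ c = (g ^ n) ^ t := by
      have : g⁻¹ * g ^ c = g ^ ((c : ℤ) - 1) := by
        rw [sub_eq_add_neg, add_comm, zpow_add, zpow_neg, zpow_one, zpow_natCast]
      rw [this, ht, zpow_mul, zpow_natCast]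
    rw [e]
    exact zpow_mem hQ t

end H14.GF
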