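import Cfsg.Agent.Lib.H14.GF8

/-!
# Glauberman's 2-factorization: the dihedral configuration
-/

set_option autoImplicit false

universe u

namespace H14.GF

open Subgroup H14.SF Cfsg

variable {G : Type u} [Group G]

/-- the statement of the section bound -/
def SBStmt (G : Type u) [Group G] : Prop :=
  ∀ {X1 X2 : Subgroup G} {v x : G}, IsPGroup 2 X1 → X2 ≤ X1 → v ∈ normalizer (X1 : Set G) →
    v ∈ normalizer (X2 : Set G) → x ∈ normalizer (X1 : Set G) → x ∈ normalizer (X2 : Set G) →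
    (∀ a ∈ X1, a * a ∈ X2) → v * v = 1 → v * x * v⁻¹ = x⁻¹ → Odd (orderOf x) →
    (∃ w ∈ X1, x * w * x⁻¹ * w⁻¹ ∉ X2) →
    ∃ l d : ℕ, l.Prime ∧ l ∣ orderOf x ∧ 0 < d ∧ l ∣ 2 ^ (2 * d) - 1 ∧
      (∀ D ≤ X1, (∀ w ∈ X1, v * w * v⁻¹ * w⁻¹ ∈ D) → 2 ^ d ≤ X2.relIndex D) ∧
      (∀ C ≤ X1, (∀ c ∈ C, v * c * v⁻¹ * c⁻¹ ∈ X2) → 2 ^ d ≤ C.relIndex X1) ∧
      (¬ Involves (Equiv.Perm (Fin 4)) G → 2 ≤ d)

theorem SB_of (hs : SBStmt G) {v x : G} {n : ℕ} (hvv : v * v = 1) (hvx : v * x * v⁻¹ = x⁻¹) (hxo : Odd (orderOf x))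
    (hn : ∀ l d : ℕ, l.Prime → l ∣ orderOf x → 0 < d → l ∣ 2 ^ (2 * d) - 1 →
      (¬ Involves (Equiv.Perm (Fin 4)) G → 2 ≤ d) → n ≤ 2 ^ d) : SB v x n := by
  intro X₁ X₂ h1 h2 h3 h4 h5 h6 h7 h8
  obtain ⟨l, d, hl, hlx, hd, hld, hD, hC, h4'⟩ := hs h1 h2 h3 h4 h5 h6 h7 hvv hvx hxo h8
  have := hn l d hl hlx hd hld h4'
  exact ⟨fun D hDX hDw => this.trans (hD D hDX hDw), fun C hCX hCw => this.trans (hC C hCX hCw)⟩

/-- the commutator of `g` with an involution is inverted by the involution -/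
theorem inv_comm {v g : G} (hvv : v * v = 1) : v * (g * v * g⁻¹ * v⁻¹) * v⁻¹ = (g * v * g⁻¹ * v⁻¹)⁻¹ := by
  have hvi : v⁻¹ = v := inv_eq_of_mul_eq_one_left hvv
  have e : (g * v * g⁻¹ * v⁻¹)⁻¹ = v * g * v⁻¹ * g⁻¹ := by group
  rw [e]
  calc v * (g * v * g⁻¹ * v⁻¹) * v⁻¹ = v * g * v * g⁻¹ * (v⁻¹ * v⁻¹) := by group
    _ = v * g * v⁻¹ * g⁻¹ := by rw [hvi, hvv, mul_one]

theorem conj_pow_inv {v g : G} (h : v * g * v⁻¹ = g⁻¹) (c : ℕ) : v * g ^ c * v⁻¹ = (g ^ c)⁻¹ := by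
  have := (conj_pow (a := v) (b := g) (i := c))
  rw [← this, h, inv_pow]

/-- the dihedral configuration -/
theorem kd [Finite G] (hs : SBStmt G) (hfree : ¬ Involves (Equiv.Perm (Fin 4)) G) {S A Q D H : Subgroup G}
    (hb : BD S A Q D H) (hD2 : ∀ a ∈ A, a ∉ D → ∀ b ∈ A, b ∉ D → a * b ∈ D) {x₁ : G}
    (hx₁ : x₁ ∈ normalizer (Q : Set G)) {n : ℕ} (hn : Odd n) (hxn : x₁ ^ n ∈ Q) (hxQ : x₁ ∉ Q)
    (hD : ∀ d ∈ D, x₁ * d * x₁⁻¹ * d⁻¹ ∈ Q) (hinv : ∀ a ∈ A, a ∉ D → a * x₁ * a⁻¹ * x₁ ∈ Q) :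
    ∃ y ∈ normalizer (Q : Set G), y ∈ centralizer (Z1 S : Set G) ∧ y⁻¹ * x₁ ∈ Q := by
  classical
  have hAS := hb.hA.1
  have hAQ : A ≤ normalizer (Q : Set G) := hAS.trans hb.SQ
  set M := normalizer (Q : Set G) with hM
  haveI hQn : (Q.subgroupOf M).Normal := Subgroup.normal_in_normalizer
  set π := QuotientGroup.mk' (Q.subgroupOf M) with hπd
  have hπ : ∀ g h : M, π g = π h ↔ (g : G)⁻¹ * h ∈ Q := by
    intro g h
    rw [hπd, QuotientGroup.mk'_apply, QuotientGroup.mk'_apply, QuotientGroup.eq, mem_subgroupOf]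
    rfl
  have hπ1 : ∀ g : M, π g = 1 ↔ (g : G) ∈ Q := by
    intro g
    rw [hπd, QuotientGroup.mk'_apply, QuotientGroup.eq_one_iff, mem_subgroupOf]
  set xM : M := ⟨x₁, hx₁⟩ with hxM
  set xb := π xM with hxb
  have hxbn : xb ^ n = 1 := by
    rw [hxb, ← map_pow, hπ1]; exact hxn
  have hxb1 : xb ≠ 1 := by
    rw [hxb, Ne, hπ1]; exact hxQ
  have hxb2 : xb * xb ≠ 1 := by
    intro h
    apply hxb1
    obtain ⟨m, hm⟩ := hn
    have h1 : xb ^ 2 = 1 := by rw [sq]; exact h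
    have h2 : xb ^ (2 * m + 1) = xb := by rw [pow_succ, pow_mul, h1, one_pow, one_mul]
    rw [← h2, ← hm]; exact hxbn
  have hinvb : ∀ a (ha : a ∈ A), a ∉ D → π ⟨a, hAQ ha⟩ * xb * (π ⟨a, hAQ ha⟩)⁻¹ = xb⁻¹ := by
    intro a ha haD
    rw [eq_inv_iff_mul_eq_one, hxb, ← map_mul, ← map_inv, ← map_mul, ← map_mul, hπ1]
    exact hinv a ha haD
  let P : Subgroup G → Prop := fun L => ∃ l ∈ L, l⁻¹ * x₁ ∈ Q
  have hrel : D.relIndex A ^ 2 ≤ 4 := by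
    have h1 : D.relIndex A ≤ 2 := by
      apply Nat.le_of_dvd (by norm_num)
      rw [Subgroup.relIndex_dvd_two_iff]
      obtain ⟨a, ha, haD⟩ := hb.hne
      refine ⟨a, ha, fun b hbA => ?_⟩
      by_cases hbD : b ∈ D
      · exact Or.inr hbD
      · exact Or.inl (hD2 b hbA hbD a ha haD)
    calc D.relIndex A ^ 2 ≤ 2 ^ 2 := Nat.pow_le_pow_left h1 2
      _ = 4 := by norm_num
  have key := cover_main hb P ?_ ?_ ?_
  · obtain ⟨L, hL, ⟨l, hl, hlx⟩, hLZ⟩ := key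
    exact ⟨l, hL.LQ hl, hLZ hl, hlx⟩
  · -- existence
    refine ⟨zpowers x₁ ⊔ Q, ⟨?_, ?_, ?_⟩, x₁, (le_sup_left : zpowers x₁ ≤ _) (mem_zpowers x₁), by simp⟩
    · exact sup_le ((zpowers_le).2 hx₁) le_normalizer
    · apply le_normalizer_of_conj
      intro a ha
      have h1 : zpowers x₁ ⊔ Q ≤ cj a⁻¹ (zpowers x₁ ⊔ Q) := by
        refine sup_le ?_ ?_
        · rw [zpowers_le, mem_cj, inv_inv]
          by_cases haD : a ∈ D
          · have h2 := hD a haD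
            have h3 := comm_symm h2
            have e : a * x₁ * a⁻¹ = (a * x₁ * a⁻¹ * x₁⁻¹) * x₁ := by group
            rw [e]
            exact mul_mem ((le_sup_right : Q ≤ _) h3) ((le_sup_left : zpowers x₁ ≤ _) (mem_zpowers x₁))
          · have h2 := hinv a ha haD
            have e : a * x₁ * a⁻¹ = (a * x₁ * a⁻¹ * x₁) * x₁⁻¹ := by group
            rw [e]
            exact mul_mem ((le_sup_right : Q ≤ _) h2) (inv_mem ((le_sup_left : zpowers x₁ ≤ _) (mem_zpowers x₁)))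
        · intro q hq
          rw [mem_cj, inv_inv]
          exact (le_sup_right : Q ≤ _) (nconj (hAQ ha) hq)
      intro x hx
      have := mem_cj.1 (h1 hx)
      rwa [inv_inv] at this
    · have h1 : zpowers x₁ ⊔ Q ≤ secC Q D := by
        refine sup_le ?_ ?_
        · rw [zpowers_le]
          exact ⟨hx₁, hD⟩
        · intro q hq
          refine ⟨le_normalizer hq, fun d hd => ?_⟩
          have h2 := mul_mem hq (nconj (hAQ (hb.DA hd)) (inv_mem hq))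
          have e : q * (d * q⁻¹ * d⁻¹) = q * d * q⁻¹ * d⁻¹ := by group
          rwa [e] at h2
      exact fun l hl d hd => (h1 hl).2 d hd
  · -- odd parts
    rintro L hL ⟨l, hl, hlx⟩
    have hlM := hL.LQ hl
    have h1 : π ⟨l, hlM⟩ = xb := (hπ _ _).2 hlx
    have h2 : l ^ n ∈ Q := by
      have : π (⟨l, hlM⟩ ^ n) = 1 := by rw [map_pow, h1, hxbn]
      exact (hπ1 _).1 this
    obtain ⟨c, hc1, hc2⟩ := exists_odd_part l hn
    refine ⟨l ^ c, subset_closure ⟨L.pow_mem hl c, hc1⟩, ?_⟩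
    have h3 := mul_mem (inv_mem (hc2 Q h2)) hlx
    have e : (l⁻¹ * l ^ c)⁻¹ * (l⁻¹ * x₁) = (l ^ c)⁻¹ * x₁ := by group
    rwa [e] at h3
  · -- inversion
    rintro L hL ⟨l, hl, hlx⟩ v hv hvD
    have hvv := hb.hA.2.2.1 v hv
    have hlM := hL.LQ hl
    have h1 : π ⟨l, hlM⟩ = xb := (hπ _ _).2 hlx
    obtain ⟨m, hm⟩ := id hn
    set l₁ := l ^ (m + 1) with hl₁
    have hl₁L : l₁ ∈ L := L.pow_mem hl _
    set w := l₁ * v * l₁⁻¹ * v⁻¹ with hw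
    have hwL : w ∈ L := by
      have := mul_mem hl₁L (nconj (hL.AL hv) (inv_mem hl₁L))
      have e : l₁ * (v * l₁⁻¹ * v⁻¹) = w := by rw [hw]; group
      rwa [e] at this
    have hwM := hL.LQ hwL
    set vb := π ⟨v, hAQ hv⟩ with hvb
    have hvxb := hinvb v hv hvD
    have hπw : π ⟨w, hwM⟩ = xb := by
      have e : (⟨w, hwM⟩ : M) = ⟨l, hlM⟩ ^ (m + 1) * ⟨v, hAQ hv⟩ * (⟨l, hlM⟩ ^ (m + 1))⁻¹ * (⟨v, hAQ hv⟩)⁻¹ := by
        apply Subtype.ext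
        simp [hw, hl₁]
      rw [e, map_mul, map_mul, map_mul, map_inv, map_inv, map_pow, h1]
      have e2 : vb * (xb ^ (m + 1))⁻¹ * vb⁻¹ = xb ^ (m + 1) := by
        have h3 : vb * xb ^ (m + 1) * vb⁻¹ = (xb ^ (m + 1))⁻¹ := conj_pow_inv hvxb _
        calc vb * (xb ^ (m + 1))⁻¹ * vb⁻¹ = (vb * xb ^ (m + 1) * vb⁻¹)⁻¹ := by group
          _ = xb ^ (m + 1) := by rw [h3, inv_inv]
      calc xb ^ (m + 1) * vb * (xb ^ (m + 1))⁻¹ * vb⁻¹ = xb ^ (m + 1) * (vb * (xb ^ (m + 1))⁻¹ * vb⁻¹) := by group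
        _ = xb ^ (m + 1) * xb ^ (m + 1) := by rw [e2]
        _ = xb ^ (2 * m + 1) * xb := by rw [← pow_add, ← pow_succ]; congr 1; ring
        _ = xb := by rw [← hm, hxbn, one_mul]
    have hwn : w ^ n ∈ Q := by
      have : π (⟨w, hwM⟩ ^ n) = 1 := by rw [map_pow, hπw, hxbn]
      exact (hπ1 _).1 this
    have hvw : v * w * v⁻¹ = w⁻¹ := inv_comm hvv
    obtain ⟨c, hc1, hc2⟩ := exists_odd_part w hn
    have hxL : w ^ c ∈ L := L.pow_mem hwL c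
    have hvx : v * w ^ c * v⁻¹ = (w ^ c)⁻¹ := conj_pow_inv hvw c
    have hπx : π ⟨w ^ c, hL.LQ hxL⟩ = xb := by
      rw [← hπw, eq_comm, hπ]
      exact hc2 Q hwn
    refine ⟨w ^ c, hxL, hc1, hvx, ?_, ?_, ?_⟩
    · intro a ha haD hcomm
      have h3 := hinvb a ha haD
      have h4 : π ⟨a, hAQ ha⟩ * xb = xb * π ⟨a, hAQ ha⟩ := by
        rw [← hπx, ← map_mul, ← map_mul]
        congr 1
        exact Subtype.ext hcomm
      rw [h4, mul_inv_cancel_right, eq_inv_iff_mul_eq_one] at h3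
      exact hxb2 h3
    · intro N hNL _ _ hxN
      refine ⟨w ^ c, hxN, ?_⟩
      exact (hπ ⟨w ^ c, hL.LQ hxL⟩ xM).1 hπx
    · apply SB_of hs hvv hvx hc1
      intro l' d _ _ _ _ h4
      refine hrel.trans ?_
      calc 4 = 2 ^ 2 := by norm_num
        _ ≤ 2 ^ d := Nat.pow_le_pow_right (by norm_num) (h4 hfree)

end H14.GF
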