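import Cfsg.Agent.Lib.H69.IC0
import Cfsg.Agent.Lib.H37.LBal

/-! S1315, piece P2: dichotomy for a big subgroup of the layer centralizing `t`. -/

set_option autoImplicit false
set_option linter.unusedSectionVars false

open Subgroup Cfsg H26.LocalFitting H69.IC
open scoped commutatorElement Pointwise

universe u

namespace H14.IcP2

theorem top_of_card {X : Type*} [Group X] [Finite X] {C M E : Subgroup X} [C.Normal] (hM : M ⊔ C = ⊤)
    (h : C.relIndex M ≤ C.relIndex E) : E ⊔ C = ⊤ := by
  have h1 : C.relIndex (M ⊔ C) = C.relIndex M := relIndex_sup_right _ _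
  rw [hM, relIndex_top_right] at h1
  have h2 : C.relIndex (E ⊔ C) = C.relIndex E := relIndex_sup_right _ _
  have h3 : C.relIndex (E ⊔ C) * (E ⊔ C).index = C.index := relIndex_mul_index le_sup_right
  have h4 : C.index ≠ 0 := index_ne_zero_of_finite
  have h5 : (E ⊔ C).index ≠ 0 := index_ne_zero_of_finite
  rw [← index_eq_one]
  rw [h2] at h3
  by_contra hne
  have h6 : 2 ≤ (E ⊔ C).index := by omega
  have h7 : C.relIndex E * 2 ≤ C.index := by rw [← h3]; exact Nat.mul_le_mul_left _ h6
  have h8 : 0 < C.index := Nat.pos_of_ne_zero h4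
  omega

theorem gen {Q : Type u} [Group Q] [Finite Q] {M E : Subgroup Q} {t : Q} (hMp : ⁅M, M⁆ = M)
    (ht : t ∈ normalizer (M : Set Q)) (hEt : ∀ e ∈ E, e * t = t * e) (hE : E ≤ M ⊔ centralizer (M : Set Q))
    (hcard : (centralizer (M : Set Q)).relIndex M ≤ (centralizer (M : Set Q)).relIndex E) :
    t ∈ centralizer (M : Set Q) := by
  set C := centralizer (M : Set Q) with hC
  set A := M ⊔ C with hA
  have hCn : ∀ g ∈ normalizer (M : Set Q), ∀ c ∈ C, g * c * g⁻¹ ∈ C := by
    intro g hg c hc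
    rw [hC, mem_centralizer_iff] at hc ⊢
    intro m hm
    have h1 : g⁻¹ * m * g ∈ M := by
      have := (mem_normalizer_iff.mp (inv_mem hg) m).mp hm
      rwa [inv_inv] at this
    have h2 := hc _ h1
    calc m * (g * c * g⁻¹) = g * ((g⁻¹ * m * g) * c) * g⁻¹ := by group
      _ = g * (c * (g⁻¹ * m * g)) * g⁻¹ := by rw [h2]
      _ = g * c * g⁻¹ * m := by group
  have hAN : A ≤ normalizer (M : Set Q) := by
    rw [hA, sup_le_iff]
    refine ⟨le_normalizer, ?_⟩
    intro c hc
    rw [mem_normalizer_iff]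
    rw [hC, mem_centralizer_iff] at hc
    intro h
    constructor
    · intro hm
      have : c * h * c⁻¹ = h := by rw [← hc h hm]; group
      rw [this]; exact hm
    · intro hm
      have h2 := hc _ hm
      have h3 : c * h * c⁻¹ * c = c * (c * h * c⁻¹) := h2
      have h4 : h = c * h * c⁻¹ := by
        have h5 : c * h = c * (c * h * c⁻¹) := by rw [← h3]; group
        exact mul_left_cancel h5
      rw [h4]; exact hm
  haveI hnorm : (C.subgroupOf A).Normal := by
    constructor
    intro n hn g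
    rw [mem_subgroupOf] at hn ⊢
    exact hCn _ (hAN g.2) _ hn
  have hMA : M ≤ A := le_sup_left
  have hCA : C ≤ A := le_sup_right
  have htop : M.subgroupOf A ⊔ C.subgroupOf A = ⊤ := by
    rw [← subgroupOf_sup hMA hCA]
    exact subgroupOf_self A
  have h1 : (C.subgroupOf A).relIndex (M.subgroupOf A) ≤ (C.subgroupOf A).relIndex (E.subgroupOf A) := by
    rw [relIndex_subgroupOf hMA, relIndex_subgroupOf hE]
    exact hcard
  have h2 := top_of_card htop h1
  apply H37.LBal.centMod_le hMp
  refine ⟨ht, ?_, ?_⟩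
  · -- normalizes M ∩ C
    rw [mem_normalizer_iff]
    have key : ∀ g ∈ normalizer (M : Set Q), ∀ c ∈ M ⊓ C, g * c * g⁻¹ ∈ M ⊓ C :=
      fun g hg c hc => ⟨(mem_normalizer_iff.mp hg c).mp hc.1, hCn g hg c hc.2⟩
    intro h
    constructor
    · intro hh; exact key t ht h hh
    · intro hh
      have := key t⁻¹ (inv_mem ht) _ hh
      have e : t⁻¹ * (t * h * t⁻¹) * t⁻¹⁻¹ = h := by group
      rwa [e] at this
  · intro m hm
    have h3 : (⟨m, hMA hm⟩ : A) ∈ E.subgroupOf A ⊔ C.subgroupOf A := by rw [h2]; trivial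
    have h4 : (⟨m, hMA hm⟩ : A) ∈ ((E.subgroupOf A ⊔ C.subgroupOf A : Subgroup A) : Set A) := h3
    rw [mul_normal] at h4
    obtain ⟨e, he, c, hc, hec⟩ := h4
    have he' : (e : Q) ∈ E := he
    have hc' : (c : Q) ∈ C := hc
    have hm' : (e : Q) * c = m := congrArg Subtype.val hec
    rw [commutatorElement_def]
    refine ⟨M.mul_mem ((mem_normalizer_iff.mp ht m).mp hm) (M.inv_mem hm), ?_⟩
    have e1 : t * m * t⁻¹ * m⁻¹ = (e : Q) * ((t * c * t⁻¹) * (c : Q)⁻¹) * (e : Q)⁻¹ := by
      rw [← hm']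
      have := hEt _ he'
      calc t * ((e : Q) * c) * t⁻¹ * ((e : Q) * c)⁻¹ = (t * e) * c * t⁻¹ * (c : Q)⁻¹ * (e : Q)⁻¹ := by group
        _ = ((e : Q) * t) * c * t⁻¹ * (c : Q)⁻¹ * (e : Q)⁻¹ := by rw [this]
        _ = _ := by group
    rw [e1]
    exact hCn _ (hAN (hE he')) _ (C.mul_mem (hCn t ht _ hc') (C.inv_mem hc'))

variable {G : Type u} [Group G] [Finite G]

/-- `sq M` is the index of the centralizer in the image -/
theorem sq_eq {M : Subgroup G} (hM : IsPComponent 2 M) :
    (centralizer ((M.map (QuotientGroup.mk' (pPrimeCore 2 G)) : Subgroup (G ⧸ pPrimeCore 2 G)) : Set _)).relIndex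
      (M.map (QuotientGroup.mk' (pPrimeCore 2 G))) = sq M := by
  set π := QuotientGroup.mk' (pPrimeCore 2 G) with hπ
  have hk : (π.comp M.subtype).ker = pPrimeCore 2 M := by
    have h1 := H26.Subnormal.map_subtype_pPrimeCore 2 hM.1
    ext x
    rw [MonoidHom.mem_ker, MonoidHom.comp_apply, hπ, QuotientGroup.mk'_apply, QuotientGroup.eq_one_iff]
    constructor
    · intro h
      have h2 : (x : G) ∈ (pPrimeCore 2 M).map M.subtype := by rw [h1]; exact ⟨x.2, h⟩
      obtain ⟨y, hy, hyx⟩ := h2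
      have : y = x := Subtype.ext hyx
      rwa [← this]
    · intro h
      have h2 : (x : G) ∈ (pPrimeCore 2 M).map M.subtype := ⟨x, h, rfl⟩
      rw [h1] at h2
      exact h2.2
  have hr : (π.comp M.subtype).range = M.map π := by
    rw [MonoidHom.range_comp, range_subtype]
  let e1 : (M ⧸ pPrimeCore 2 M) ≃* (M.map π : Subgroup (G ⧸ pPrimeCore 2 G)) :=
    ((QuotientGroup.quotientMulEquivOfEq hk.symm).trans (QuotientGroup.quotientKerEquivRange _)).trans
      (MulEquiv.subgroupCongr hr)
  have hcen : (centralizer ((M.map π : Subgroup (G ⧸ pPrimeCore 2 G)) : Set _)).subgroupOf (M.map π) =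
      center (M.map π : Subgroup (G ⧸ pPrimeCore 2 G)) := by
    ext x
    rw [mem_subgroupOf, mem_centralizer_iff, mem_center_iff]
    constructor
    · intro h g
      exact Subtype.ext (h g g.2)
    · intro h g hg
      exact congrArg Subtype.val (h ⟨g, hg⟩)
  unfold Subgroup.relIndex
  rw [hcen, H69.IC.sq, Subgroup.index]
  have h3 : (center (M ⧸ pPrimeCore 2 M)).map
      (e1 : (M ⧸ pPrimeCore 2 M) →* (M.map π : Subgroup (G ⧸ pPrimeCore 2 G))) =
      center (M.map π : Subgroup (G ⧸ pPrimeCore 2 G)) := by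
    ext x
    constructor
    · rintro ⟨y, hy, rfl⟩
      rw [mem_center_iff]
      intro g
      obtain ⟨g', rfl⟩ := e1.surjective g
      have := mem_center_iff.mp hy g'
      change e1 g' * e1 y = e1 y * e1 g'
      rw [← map_mul, ← map_mul, this]
    · intro hx
      refine ⟨e1.symm x, ?_, e1.apply_symm_apply x⟩
      rw [SetLike.mem_coe, mem_center_iff]
      intro g
      apply e1.injective
      rw [map_mul, map_mul, e1.apply_symm_apply]
      exact mem_center_iff.mp hx _
  exact (Nat.card_congr (QuotientGroup.congr _ _ e1 h3).toEquiv).symm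

theorem dich {M E : Subgroup G} {t : G} (hM : IsPComponent 2 M) (ht : t ∈ normalizer (M : Set G))
    (hEt : ∀ e ∈ E, e * t = t * e) (hE : E ≤ pLayer 2 G) (hbig : Big E (sq M)) :
    ⁅E, M⁆ ≤ pPrimeCore 2 G ∨ ∀ m ∈ M, t * m * t⁻¹ * m⁻¹ ∈ pPrimeCore 2 G := by
  set π := QuotientGroup.mk' (pPrimeCore 2 G) with hπ
  set C := centralizer ((M.map π : Subgroup (G ⧸ pPrimeCore 2 G)) : Set (G ⧸ pPrimeCore 2 G)) with hC
  have hπk : ∀ x : G, π x = 1 ↔ x ∈ pPrimeCore 2 G := fun x => by
    rw [hπ, QuotientGroup.mk'_apply, QuotientGroup.eq_one_iff]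
  have hlay : (pLayer 2 G).map π ≤ M.map π ⊔ C := by
    rw [map_le_iff_le_comap, pLayer, sSup_le_iff]
    intro L hL
    rw [← map_le_iff_le_comap]
    by_cases hLM : L = M
    · rw [hLM]; exact le_sup_left
    · refine le_trans ?_ le_sup_right
      rw [hC, ← commutator_eq_bot_iff_le_centralizer, ← map_commutator, Subgroup.map_eq_bot_iff, hπ,
        QuotientGroup.ker_mk']
      exact H26.PComponents.commutator_le_pPrimeCore hL hM hLM
  have hEm : E.map π ≤ M.map π ⊔ C := (map_mono hE).trans hlay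
  let N : Subgroup E := C.comap (π.comp E.subtype)
  have hπt : π t ∈ normalizer ((M.map π : Subgroup _) : Set (G ⧸ pPrimeCore 2 G)) := by
    rw [mem_normalizer_iff_map_conj_eq] at ht ⊢
    have h1 := congrArg (Subgroup.map π) ht
    conv_rhs => rw [← h1]
    rw [Subgroup.map_map, Subgroup.map_map]
    congr 1
  -- the centralizer is normalized
  have hCn : ∀ g ∈ M.map π ⊔ C, ∀ c ∈ C, g * c * g⁻¹ ∈ C := by
    have h1 : M.map π ⊔ C ≤ normalizer (C : Set (G ⧸ pPrimeCore 2 G)) := by
      rw [sup_le_iff]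
      refine ⟨?_, le_normalizer⟩
      intro g hg
      rw [mem_normalizer_iff]
      have key : ∀ g ∈ M.map π, ∀ c ∈ C, g * c * g⁻¹ ∈ C := by
        intro g hg c hc
        have h2 : g * c = c * g := (mem_centralizer_iff.mp hc g hg)
        rw [h2, mul_inv_cancel_right]; exact hc
      intro h
      constructor
      · intro hh; exact key g hg h hh
      · intro hh
        have := key g⁻¹ (inv_mem hg) _ hh
        have e : g⁻¹ * (g * h * g⁻¹) * g⁻¹⁻¹ = h := by group
        rwa [e] at this
    intro g hg c hc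
    exact (mem_normalizer_iff.mp (h1 hg) c).mp hc
  have hNn : N.Normal := by
    constructor
    intro n hn g
    change π ((g * n * g⁻¹ : E) : G) ∈ C
    have : π ((g * n * g⁻¹ : E) : G) = π g * π n * (π g)⁻¹ := by simp
    rw [this]
    exact hCn _ (hEm ⟨g, g.2, rfl⟩) _ hn
  by_cases hN : N = ⊤
  · left
    have h1 : E.map π ≤ C := by
      rintro _ ⟨e, he, rfl⟩
      have : (⟨e, he⟩ : E) ∈ N := by rw [hN]; trivial
      exact this
    rw [hC, ← commutator_eq_bot_iff_le_centralizer, ← map_commutator, Subgroup.map_eq_bot_iff, hπ,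
      QuotientGroup.ker_mk'] at h1
    exact h1
  · right
    have h1 := hbig N hNn hN
    have h2 : N.index = C.relIndex (E.map π) := by
      rw [index_comap, MonoidHom.range_comp, range_subtype]
    rw [h2, ← sq_eq hM] at h1
    have hMp : ⁅M.map π, M.map π⁆ = M.map π := by
      rw [← map_commutator]
      have h3 : H37.PCOf.QS 2 M := (H37.PCOf.isPComponent_iff.mp hM).2
      rw [h3.commutator_self]
    have h3 := gen (t := π t) hMp hπt (by
      rintro _ ⟨e, he, rfl⟩
      rw [← map_mul, ← map_mul, hEt e he]) hEm h1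
    intro m hm
    rw [← hπk, map_mul, map_mul, map_mul, map_inv, map_inv]
    have h4 : π m * π t = π t * π m := mem_centralizer_iff.mp h3 (π m) ⟨m, hm, rfl⟩
    rw [← h4]; group

end H14.IcP2
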