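import Cfsg.Agent.Lib.H51.QdStab2

/-!
# `Qd(p)` as a section: description in terms of automorphisms of a `p`-subgroup
-/

set_option autoImplicit false

namespace H14.QdAct

open Cfsg Subgroup H51.Involves H51.Qd H51.QdStab H51.QdStab2 H85.SL2

universe u

/-- Two automorphisms acting quadratically modulo `T₀` and generating a group which is not a `p`-group there. -/
structure QDA (p : ℕ) {T : Type*} [Group T] (T₀ : Subgroup T) (α β : MulAut T) : Prop where
  norm : T₀.Normal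
  hα : ∀ a ∈ T₀, α a ∈ T₀
  hβ : ∀ a ∈ T₀, β a ∈ T₀
  qα : ∀ a, α (α a * a⁻¹) * (α a * a⁻¹)⁻¹ ∈ T₀
  qβ : ∀ a, β (β a * a⁻¹) * (β a * a⁻¹)⁻¹ ∈ T₀
  ne : ∀ j : ℕ, ∃ a, ((α * β⁻¹ * α) ^ p ^ j) a * a⁻¹ ∉ T₀

theorem QDA.congr {p : ℕ} {T U : Type*} [Group T] [Group U] {T₀ : Subgroup T} {α β : MulAut T}
    (h : QDA p T₀ α β) (e : T ≃* U) : QDA p (T₀.map e.toMonoidHom) (MulAut.congr e α) (MulAut.congr e β) := by
  have hm : ∀ x : T, e x ∈ T₀.map e.toMonoidHom ↔ x ∈ T₀ := fun x => mem_map_iff_mem (f := e.toMonoidHom) e.injective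
  have hc : ∀ (γ : MulAut T) (x : T), MulAut.congr e γ (e x) = e (γ x) := by
    intro γ x
    simp [MulAut.congr]
  refine ⟨?_, ?_, ?_, ?_, ?_, ?_⟩
  · haveI := h.norm
    exact (inferInstance : T₀.Normal).map _ e.surjective
  · rintro _ ⟨x, hx, rfl⟩
    change MulAut.congr e α (e x) ∈ _
    rw [hc, hm]
    exact h.hα x hx
  · rintro _ ⟨x, hx, rfl⟩
    change MulAut.congr e β (e x) ∈ _
    rw [hc, hm]
    exact h.hβ x hx
  · intro a
    obtain ⟨x, rfl⟩ := e.surjective a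
    rw [hc, ← map_inv, ← map_mul, hc, ← map_inv, ← map_mul, hm]
    exact h.qα x
  · intro a
    obtain ⟨x, rfl⟩ := e.surjective a
    rw [hc, ← map_inv, ← map_mul, hc, ← map_inv, ← map_mul, hm]
    exact h.qβ x
  · intro j
    obtain ⟨x, hx⟩ := h.ne j
    refine ⟨e x, ?_⟩
    rw [← map_inv (MulAut.congr e), ← map_mul, ← map_mul, ← map_pow, hc, ← map_inv, ← map_mul, hm]
    exact hx

/-- Realization in a finite group gives the section. -/
theorem QDA.back {p : ℕ} [hp : Fact p.Prime] (hp2 : p ≠ 2) {T : Type*} [Group T] (hT : IsPGroup p T)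
    {T₀ : Subgroup T} {α β : MulAut T} (h : QDA p T₀ α β) {L : Type u} [Group L] [Finite L] (i : T →* L)
    (hi : Function.Injective i) (x y : L) (hx : ∀ a, i (α a) = x * i a * x⁻¹) (hy : ∀ a, i (β a) = y * i a * y⁻¹) :
    Involves ↥(qd p) L := by
  classical
  haveI := h.norm
  have hfT : Finite T := Finite.of_injective i hi
  set U : Subgroup L := i.range with hU
  set U₀ : Subgroup L := T₀.map i with hU₀
  have hU₀U : U₀ ≤ U := map_le_range i T₀
  have hmem : ∀ t : T, i t ∈ U₀ ↔ t ∈ T₀ := fun t => mem_map_iff_mem hi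
  set M : Subgroup L := normalizer (U : Set L) ⊓ normalizer (U₀ : Set L) with hM
  have hUM : U ≤ M := by
    refine le_inf le_normalizer ?_
    rintro _ ⟨t, rfl⟩
    apply mem_normalizer_of_conj_mem
    rintro _ ⟨s, hs, rfl⟩
    rw [← map_mul, ← map_inv, ← map_mul, hmem]
    exact (inferInstance : T₀.Normal).conj_mem s hs t
  have hgM : ∀ (γ : MulAut T) (g : L), (∀ a, i (γ a) = g * i a * g⁻¹) → (∀ a ∈ T₀, γ a ∈ T₀) → g ∈ M := by
    intro γ g hg hγ
    refine mem_inf.mpr ⟨?_, ?_⟩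
    · apply mem_normalizer_of_conj_mem
      rintro _ ⟨s, rfl⟩
      rw [← hg]
      exact ⟨_, rfl⟩
    · apply mem_normalizer_of_conj_mem
      rintro _ ⟨s, hs, rfl⟩
      rw [← hg, hmem]
      exact hγ s hs
  have hxM : x ∈ M := hgM α x hx h.hα
  have hyM : y ∈ M := hgM β y hy h.hβ
  set N₀ : Subgroup M := U₀.subgroupOf M with hN₀
  haveI hN₀n : N₀.Normal := normal_subgroupOf_of_le_normalizer inf_le_right
  set q := QuotientGroup.mk' N₀ with hq
  have hqs : Function.Surjective q := QuotientGroup.mk'_surjective N₀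
  have hqk : ∀ m : M, q m = 1 ↔ (m : L) ∈ U₀ := by
    intro m
    rw [hq, QuotientGroup.mk'_apply, QuotientGroup.eq_one_iff]
    rfl
  have hqe : ∀ m m' : M, q m = q m' ↔ (m : L) * (m' : L)⁻¹ ∈ U₀ := by
    intro m m'
    rw [← mul_inv_eq_one, ← map_inv, ← map_mul, hqk]
    rfl
  let x' : M := ⟨x, hxM⟩
  let y' : M := ⟨y, hyM⟩
  let it : T → M := fun t => ⟨i t, hUM ⟨t, rfl⟩⟩
  set P : Subgroup (M ⧸ N₀) := (U.subgroupOf M).map q with hP
  have hmemP : ∀ z, z ∈ P ↔ ∃ t : T, q (it t) = z := by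
    intro z
    constructor
    · rintro ⟨⟨m, hm⟩, ⟨t, ht⟩, rfl⟩
      have ht' : i t = m := ht
      exact ⟨t, by congr 1; exact Subtype.ext ht'⟩
    · rintro ⟨t, rfl⟩
      exact ⟨it t, ⟨t, rfl⟩, rfl⟩
  have hPp : IsPGroup p P := by
    have h1 : IsPGroup p U := by
      intro z
      obtain ⟨t, ht⟩ := z.2
      obtain ⟨k, hk⟩ := hT t
      refine ⟨k, Subtype.ext ?_⟩
      change (z : L) ^ p ^ k = 1
      rw [← ht, ← map_pow, hk, map_one]
    exact (h1.comap_of_injective M.subtype M.subtype_injective).map q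
  have hquad : ∀ (γ : MulAut T) (g : M), (∀ a, i (γ a) = (g : L) * i a * (g : L)⁻¹) →
      (∀ a, γ (γ a * a⁻¹) * (γ a * a⁻¹)⁻¹ ∈ T₀) → q g ∈ normalizer (P : Set (M ⧸ N₀)) ∧ Quad (q g) P := by
    intro γ g hg hγ
    constructor
    · apply mem_normalizer_of_conj_mem
      intro z hz
      obtain ⟨t, rfl⟩ := (hmemP z).1 hz
      rw [hmemP]
      refine ⟨γ t, ?_⟩
      rw [← map_mul, ← map_inv, ← map_mul]
      congr 1
      exact Subtype.ext (hg t)
    · intro z hz
      obtain ⟨t, rfl⟩ := (hmemP z).1 hz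
      have h1 : q g * q (it t) * (q g)⁻¹ * (q (it t))⁻¹ = q (it (γ t * t⁻¹)) := by
        rw [← map_inv, ← map_inv, ← map_mul, ← map_mul, ← map_mul]
        congr 1
        apply Subtype.ext
        change (g : L) * i t * (g : L)⁻¹ * (i t)⁻¹ = i (γ t * t⁻¹)
        rw [map_mul, map_inv, hg]
      rw [h1, ← map_inv, ← map_mul, ← map_mul, hqe]
      change (g : L) * i (γ t * t⁻¹) * (g : L)⁻¹ * (i (γ t * t⁻¹))⁻¹ ∈ U₀
      rw [← hg, ← map_inv, ← map_mul, hmem]
      exact hγ t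
  obtain ⟨hnx, hqx⟩ := hquad α x' hx h.qα
  obtain ⟨hny, hqy⟩ := hquad β y' hy h.qβ
  have hinv : Involves ↥(qd p) (M ⧸ N₀) := by
    refine qd_of_quadratic hp2 _ P (q x') (q y') rfl hPp hnx hny hqx hqy ?_
    intro hall
    have hw : q x' * (q y')⁻¹ * q x' ∈ Subgroup.closure ({q x', q y'} : Set (M ⧸ N₀)) :=
      mul_mem (mul_mem (subset_closure (by simp)) (inv_mem (subset_closure (by simp)))) (subset_closure (by simp))
    obtain ⟨j, hj⟩ := hall _ hw
    obtain ⟨a, ha⟩ := h.ne j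
    apply ha
    -- the action of the word
    have hβi : ∀ a, i (β⁻¹ a) = y⁻¹ * i a * y⁻¹⁻¹ := by
      intro a
      have h1 := hy (β⁻¹ a)
      rw [MulAut.apply_inv_self] at h1
      rw [h1]; group
    have hmul : ∀ (γ δ : MulAut T) (g k : L), (∀ a, i (γ a) = g * i a * g⁻¹) → (∀ a, i (δ a) = k * i a * k⁻¹) →
        ∀ a, i ((γ * δ) a) = (g * k) * i a * (g * k)⁻¹ := by
      intro γ δ g k hg hk a
      rw [MulAut.mul_apply, hg, hk]; group
    have hword := hmul _ _ _ _ (hmul _ _ _ _ hx hβi) hx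
    have hpow : ∀ (γ : MulAut T) (g : L), (∀ a, i (γ a) = g * i a * g⁻¹) → ∀ n : ℕ,
        ∀ a, i ((γ ^ n) a) = g ^ n * i a * (g ^ n)⁻¹ := by
      intro γ g hg n
      induction n with
      | zero => intro a; simp
      | succ n ih =>
        rw [pow_succ, pow_succ]
        exact hmul _ _ _ _ ih hg
    have h2 := hpow _ _ hword (p ^ j) a
    rw [← hmem, map_mul, map_inv, h2]
    have h3 := mem_centralizer_iff.1 hj (q (it a)) ((hmemP _).2 ⟨a, rfl⟩)
    have h4 : q ((x' * y'⁻¹ * x') ^ p ^ j * it a * ((x' * y'⁻¹ * x') ^ p ^ j)⁻¹ * (it a)⁻¹) = 1 := by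
      simp only [map_mul, map_pow, map_inv]
      rw [← h3, mul_inv_cancel_right, mul_inv_cancel]
    exact (hqk _).1 h4
  exact involves_of_injective M.subtype M.subtype_injective (involves_of_hom q hqs hinv)

theorem sl2_word (F : Type*) [Field F] : (up (1 : F) * (lo (1 : F))⁻¹ * up 1) = ⟨!![0, 1; -1, 0], by simp⟩ := by
  rw [lo_inv]
  apply Subtype.ext
  ext i j
  fin_cases i <;> fin_cases j <;> simp [Matrix.mul_fin_two]

theorem sl2_word_sq (F : Type*) [Field F] :
    (up (1 : F) * (lo (1 : F))⁻¹ * up 1) * (up (1 : F) * (lo (1 : F))⁻¹ * up 1) = -1 := by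
  rw [sl2_word]
  apply Subtype.ext
  change (!![0, 1; -1, 0] : Matrix (Fin 2) (Fin 2) F) * !![0, 1; -1, 0] = _
  rw [Matrix.mul_fin_two]
  ext i j
  fin_cases i <;> fin_cases j <;> simp

/-- odd powers of the word move a vector -/
theorem word_pow_ne {F : Type*} [Field F] {n : ℕ} (hn : Odd n) :
    (up (1 : F) * (lo (1 : F))⁻¹ * up 1) ^ n ≠ 1 := by
  obtain ⟨m, rfl⟩ := hn
  intro h
  set w := (up (1 : F) * (lo (1 : F))⁻¹ * up 1) with hw
  have h1 : w * w = -1 := sl2_word_sq F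
  have h2 : w ^ (2 * m) = 1 ∨ w ^ (2 * m) = -1 := by
    rw [pow_mul, pow_two, h1]
    exact neg_one_pow_eq_or _ m
  have h3 : w ^ (2 * m + 1) = w ^ (2 * m) * w := pow_succ _ _
  rw [h3] at h
  have hw0 : (w : Matrix (Fin 2) (Fin 2) F) 0 0 = 0 := by
    rw [hw, sl2_word]; simp
  rcases h2 with h2 | h2
  · rw [h2, one_mul] at h
    rw [h] at hw0
    simp at hw0
  · rw [h2, neg_one_mul] at h
    have h4 : w = -1 := by rw [← h, neg_neg]
    rw [h4] at hw0
    simp at hw0

/-- A section `Qd(p)` gives such automorphisms of a `p`-subgroup. -/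
theorem fwd {p : ℕ} [hp : Fact p.Prime] (hp2 : p ≠ 2) {G : Type*} [Group G] [Finite G]
    (h : Involves ↥(qd p) G) : ∃ (T : Subgroup G) (T₀ : Subgroup T) (α β : MulAut T) (x y : G), IsPGroup p T ∧
      QDA p T₀ α β ∧ (∀ a : T, ((α a : T) : G) = x * a * x⁻¹) ∧ ∀ a : T, ((β a : T) : G) = y * a * y⁻¹ := by
  classical
  obtain ⟨K, f, hf⟩ := exists_surjective h
  change K →* qdOver (ZMod p) at f
  obtain ⟨P, hP, hPA, hPN, -, -⟩ := exists_lift_normal (p := p) f hf (lin (F := ZMod p)).ker (isPGroup_ker p)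
  obtain ⟨x₀, hx₀, hfx⟩ : emb (up (1 : ZMod p)) ∈ (normalizer (P : Set K)).map f := by rw [hPN]; trivial
  obtain ⟨y₀, hy₀, hfy⟩ : emb (lo (1 : ZMod p)) ∈ (normalizer (P : Set K)).map f := by rw [hPN]; trivial
  set α : MulAut P := P.normalizerMonoidHom ⟨x₀, hx₀⟩ with hα
  set β : MulAut P := P.normalizerMonoidHom ⟨y₀, hy₀⟩ with hβ
  have hαv : ∀ a : P, ((α a : P) : K) = x₀ * a * x₀⁻¹ := fun a => rfl
  have hβv : ∀ a : P, ((β a : P) : K) = y₀ * a * y₀⁻¹ := fun a => rfl
  set g : P →* qdOver (ZMod p) := f.comp P.subtype with hg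
  have hgα : ∀ a, g (α a) = emb (up (1 : ZMod p)) * g a * (emb (up (1 : ZMod p)))⁻¹ := by
    intro a
    rw [hg, MonoidHom.comp_apply, MonoidHom.comp_apply, coe_subtype, hαv, map_mul, map_mul, map_inv, hfx]
  have hgβ : ∀ a, g (β a) = emb (lo (1 : ZMod p)) * g a * (emb (lo (1 : ZMod p)))⁻¹ := by
    intro a
    rw [hg, MonoidHom.comp_apply, MonoidHom.comp_apply, coe_subtype, hβv, map_mul, map_mul, map_inv, hfy]
  have hgv : ∀ a, ∃ u v, g a = tr u v := by
    intro a
    have h1 : g a ∈ (lin (F := ZMod p)).ker := by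
      rw [← hPA]
      exact ⟨a, a.2, rfl⟩
    exact mem_ker_lin.1 h1
  have hgs : ∀ u v : ZMod p, ∃ a, g a = tr u v := by
    intro u v
    have h1 : tr u v ∈ (lin (F := ZMod p)).ker := mem_ker_lin.2 ⟨u, v, rfl⟩
    rw [← hPA] at h1
    obtain ⟨a, ha, hav⟩ := h1
    exact ⟨⟨a, ha⟩, hav⟩
  have htri : ∀ u v : ZMod p, (tr u v)⁻¹ = tr (-u) (-v) := by
    intro u v
    rw [inv_eq_iff_mul_eq_one, tr_mul, add_neg_cancel, add_neg_cancel, tr_zero]
  have hQDA : QDA p g.ker α β := by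
    refine ⟨inferInstance, ?_, ?_, ?_, ?_, ?_⟩
    · intro a ha
      rw [MonoidHom.mem_ker] at ha ⊢
      rw [hgα, ha]; simp
    · intro a ha
      rw [MonoidHom.mem_ker] at ha ⊢
      rw [hgβ, ha]; simp
    · intro a
      obtain ⟨u, v, hav⟩ := hgv a
      rw [MonoidHom.mem_ker, map_mul, map_inv, hgα, map_mul, map_inv, hgα, hav, emb_conj_tr, htri, tr_mul,
        emb_conj_tr, htri, tr_mul, ← tr_zero]
      congr 1 <;> simp
    · intro a
      obtain ⟨u, v, hav⟩ := hgv a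
      rw [MonoidHom.mem_ker, map_mul, map_inv, hgβ, map_mul, map_inv, hgβ, hav, emb_conj_tr, htri, tr_mul,
        emb_conj_tr, htri, tr_mul, ← tr_zero]
      congr 1 <;> simp
    · intro j
      by_contra hcon
      push Not at hcon
      -- the word acts on `V` by the matrix
      have hact : ∀ (γ : MulAut P) (A : Matrix.SpecialLinearGroup (Fin 2) (ZMod p)) (a : P),
          (∀ b, g (γ b) = emb A * g b * (emb A)⁻¹) → g (γ⁻¹ a) = emb A⁻¹ * g a * (emb A⁻¹)⁻¹ := by
        intro γ A a h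
        have h1 := h (γ⁻¹ a)
        rw [MulAut.apply_inv_self] at h1
        rw [h1, map_inv]; group
      have hmul : ∀ (γ δ : MulAut P) (A B : Matrix.SpecialLinearGroup (Fin 2) (ZMod p)),
          (∀ b, g (γ b) = emb A * g b * (emb A)⁻¹) → (∀ b, g (δ b) = emb B * g b * (emb B)⁻¹) →
          ∀ b, g ((γ * δ) b) = emb (A * B) * g b * (emb (A * B))⁻¹ := by
        intro γ δ A B hA hB b
        rw [MulAut.mul_apply, hA, hB, map_mul]; group
      have hpow : ∀ (γ : MulAut P) (A : Matrix.SpecialLinearGroup (Fin 2) (ZMod p)),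
          (∀ b, g (γ b) = emb A * g b * (emb A)⁻¹) → ∀ n : ℕ,
          ∀ b, g ((γ ^ n) b) = emb (A ^ n) * g b * (emb (A ^ n))⁻¹ := by
        intro γ A hA n
        induction n with
        | zero => intro b; simp
        | succ n ih =>
          rw [pow_succ, pow_succ]
          exact hmul _ _ _ _ ih hA
      have hword := hmul _ _ _ _ (hmul _ _ _ _ hgα (fun b => hact β _ b hgβ)) hgα
      have hwp := hpow _ _ hword (p ^ j)
      have hodd : Odd (p ^ j) := (hp.out.odd_of_ne_two hp2).pow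
      apply word_pow_ne (F := ZMod p) hodd
      set A := (up (1 : ZMod p) * (lo (1 : ZMod p))⁻¹ * up 1) ^ p ^ j with hA
      have hfix : ∀ u v : ZMod p, emb A * tr u v * (emb A)⁻¹ = tr u v := by
        intro u v
        obtain ⟨a, ha⟩ := hgs u v
        have h1 := hcon a
        rw [MonoidHom.mem_ker, map_mul, map_inv, hwp, mul_inv_eq_one] at h1
        rwa [ha] at h1
      have h10 := hfix 1 0
      have h01 := hfix 0 1
      rw [emb_conj_tr, tr, tr, mk_inj] at h10 h01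
      apply Subtype.ext
      ext i j
      fin_cases i <;> fin_cases j
      · simpa using h10.2.1
      · simpa using h01.2.1
      · simpa using h10.2.2
      · simpa using h01.2.2
  -- transfer to `G`
  let e : P ≃* P.map K.subtype := P.equivMapOfInjective K.subtype K.subtype_injective
  have he : ∀ a : P, ((e a : P.map K.subtype) : G) = ((a : K) : G) := fun a => rfl
  refine ⟨P.map K.subtype, _, _, _, (x₀ : G), (y₀ : G), hP.map _, hQDA.congr e, ?_, ?_⟩
  · intro a
    obtain ⟨b, rfl⟩ := e.surjective a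
    change ((e (α (e.symm (e b))) : P.map K.subtype) : G) = _
    rw [MulEquiv.symm_apply_apply, he, he, hαv]
    rfl
  · intro a
    obtain ⟨b, rfl⟩ := e.surjective a
    change ((e (β (e.symm (e b))) : P.map K.subtype) : G) = _
    rw [MulEquiv.symm_apply_apply, he, he, hβv]
    rfl

end H14.QdAct
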